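import Cfsg.Agent.DS.B.Tools
import Cfsg.Agent.H810.RIM.BCent
import Cfsg.Agent.H630.U33.Seven
import Cfsg.Agent.H705.OreB.Small
import Cfsg.Agent.H630.OreB.Cent
import Cfsg.Agent.H844.Ore.BInv
import Cfsg.Agent.H243.BKillB
import Cfsg.Agent.H604.RB.Three
import Cfsg.Agent.H604.RB.ThreeB
import Cfsg.Agent.H573.U33.Conj
import Cfsg.Agent.H759.Ore.Fi22Cent
import Cfsg.Agent.OrdDiv.Table
import Cfsg.Agent.H940.EngData

/-!
# S5881, S5882, the box `BoxB`: the odd local subgroups of the Baby Monster (helper22)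

`oddF : Big → Spor.IsoB L → OddF L`.
-/

set_option autoImplicit false
set_option linter.style.haveILetI false
set_option maxRecDepth 100000

namespace Cfsg.Agent.DS.B

open Subgroup Cfsg

/-- the input of the order engine -/
theorem base (big : Big) : Cfsg.Agent.H940.Eng.Base :=
  ⟨Cfsg.Agent.OrdDiv.table.{0}, fun _ _ _ _ => big.cf _⟩

theorem card_cent_conj {G : Type*} [Group G] {x y : G} (h : IsConj x y) :
    Nat.card (centralizer ({x} : Set G)) = Nat.card (centralizer ({y} : Set G)) := by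
  obtain ⟨g, rfl⟩ := isConj_iff.1 h
  exact Cfsg.Agent.LThreeB.card_centralizer_congr (MulAut.conj g) x

variable {L : Type} [Group L] [Finite L]

/-- elements of prime order at least five -/
theorem cent_five (big : Big) [IsSimpleGroup L] (h : Spor.IsoB L) {q : ℕ} (hq : q.Prime) (h5 : 5 ≤ q) {x : L}
    (hx : orderOf x = q) :
    ¬ 2 ^ 17 ∣ Nat.card (centralizer ({x} : Set L)) ∧ ¬ 3 ^ 11 ∣ Nat.card (centralizer ({x} : Set L)) := by
  by_cases hq5 : q = 5
  · subst hq5
    rcases H810.RIM.BCent.five_dvd h hx with h1 | h1 | h1 <;>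
      exact ⟨fun h2 => absurd ((h2.trans (dvd_mul_right _ 2)).trans h1) (by norm_num),
        fun h2 => absurd ((h2.trans (dvd_mul_right _ 2)).trans h1) (by norm_num)⟩
  by_cases hq7 : q = 7
  · subst hq7
    rcases H630.U33.Seven.card_seven h hx with h1 | h1 <;> rw [h1] <;> norm_num
  by_cases hq23 : q = 23
  · subst hq23
    rw [H630.OreB.Cent.c23 (H715.Mon.Grp.sThree (base big)) h hx]
    norm_num
  have h11 : 11 ≤ q := by
    by_contra hlt
    have h8 : q < 11 := by omega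
    interval_cases q <;> first | omega | norm_num at hq
  have h1 := H705.OreB.Small.le_small (base big) h hq (by omega) hq23 hx
  have h2 : q ∣ Nat.card (centralizer ({x} : Set L)) := by
    rw [← hx]
    exact Subgroup.orderOf_dvd_natCard _ (mem_centralizer_singleton_iff.2 rfl)
  have key : ∀ p k : ℕ, p.Prime → p < 11 → p ^ k ∣ Nat.card (centralizer ({x} : Set L)) → p ^ k * 11 ≤ 564480 := by
    intro p k hp hp11 h3
    have h4 : (p ^ k).Coprime q := Nat.Coprime.pow_left _ ((Nat.coprime_primes hp hq).2 (by omega))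
    have h6 := Nat.le_of_dvd Nat.card_pos (h4.mul_dvd_of_dvd_of_dvd h3 h2)
    exact (Nat.mul_le_mul_left _ h11).trans (h6.trans h1)
  exact ⟨fun h3 => absurd (key 2 17 Nat.prime_two (by norm_num) h3) (by norm_num),
    fun h3 => absurd (key 3 11 Nat.prime_three (by norm_num) h3) (by norm_num)⟩

omit [Finite L] in
/-- class 3B -/
theorem cent_three (h : Spor.IsoB L) {x : L} (hx : orderOf x = 3) (h7 : ¬ 7 ∣ Nat.card (centralizer ({x} : Set L))) :
    Nat.card (centralizer ({x} : Set L)) = 65303470080 := by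
  obtain ⟨e⟩ := id h
  let φ : Cfsg.Agent.H819.U33.G ≃* L := (BM.KHAll.iso.symm).trans e.symm
  have h1 : orderOf (φ (Cfsg.Agent.H819.U33.g Cfsg.Agent.H863.U33.wy1)) = 3 := by
    rw [MulEquiv.orderOf_eq, H604.RB.ThreeB.order_y]
  have h2 : Nat.card (centralizer ({φ (Cfsg.Agent.H819.U33.g Cfsg.Agent.H863.U33.wy1)} : Set L)) = 65303470080 := by
    rw [← Cfsg.Agent.LThreeB.card_centralizer_congr φ, H604.RB.ThreeB.card_y]
  rw [card_cent_conj (H573.U33.Conj.conj_three h hx h1 h7 (by rw [h2]; norm_num)), h2]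

omit [Finite L] in
/-- the 2-subgroups of `C(s)`, `s` of class 3A -/
theorem two_sub {s : L} (D : H480.Ore.FiFrame s) (hs : orderOf s = 3) {U : Subgroup L} [Finite U] (hU : IsPGroup 2 U)
    (hUs : U ≤ centralizer ({s} : Set L)) {W : Subgroup Spor.Fi22} (hW : ∀ g, D.j g ∈ U → g ∈ W) :
    Nat.card U ∣ 2 * Nat.card W := by
  have h1 : (D.S.subgroupOf U).index ∣ 2 := by
    rw [index_dvd_two_iff]
    by_cases h2 : ∀ b : U, (b : L) ∈ D.S
    · exact ⟨1, fun b => Or.inr (h2 b)⟩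
    push Not at h2
    obtain ⟨a, ha⟩ := h2
    refine ⟨a, fun b => ?_⟩
    by_cases hb : (b : L) ∈ D.S
    · exact Or.inr hb
    · exact Or.inl (D.cover' (mem_centralizer_singleton_iff.1 (hUs b.2)) (mem_centralizer_singleton_iff.1 (hUs a.2)) hb ha)
  rw [← (D.S.subgroupOf U).index_mul_card]
  refine Nat.mul_dvd_mul h1 ?_
  rw [← card_map_of_injective U.subtype_injective, ← card_map_of_injective (K := W) D.inj]
  refine card_dvd_of_le ?_
  rintro _ ⟨u, hu, rfl⟩
  obtain ⟨n, hn⟩ := hU u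
  obtain ⟨f, hf⟩ := D.two_mem hs (u := (u : L)) (n := n) (congrArg Subtype.val hn) hu
  exact ⟨f, hW f (hf ▸ u.2), hf.symm⟩

theorem pow_lt {s k : ℕ} (hs : s.Prime) (h : s ^ k ∣ 4154781481226426191177580544000000) (hk : 1 ≤ k) :
    (s = 2 ∨ s = 3 ∨ s = 5 ∨ s = 7 ∨ s = 11 ∨ s = 13 ∨ s = 17 ∨ s = 19 ∨ s = 23 ∨ s = 31 ∨ s = 47) ∧ k < 42 := by
  have h1 := H705.OreB.Small.primes hs ((dvd_pow_self s (by omega)).trans h)
  refine ⟨h1, ?_⟩
  by_contra hlt
  have h2 := (pow_dvd_pow s (show 42 ≤ k by omega)).trans h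
  rcases h1 with rfl | rfl | rfl | rfl | rfl | rfl | rfl | rfl | rfl | rfl | rfl <;> norm_num at h2

theorem pow_chk : ∀ s ∈ [3, 5, 7, 11, 13, 17, 19, 23, 31, 47], ∀ k < 42, 1 ≤ k →
    s ^ k ∣ 4154781481226426191177580544000000 → ¬ 2 ^ 6 ∣ s ^ k - 1 ∧ (s ≠ 3 → ¬ 3 ^ 3 ∣ s ^ k - 1) := by
  decide +kernel

theorem pow_chk2 : ∀ k < 42, 1 ≤ k → ¬ 3 ^ 4 ∣ 2 ^ k - 1 := by
  decide +kernel

theorem pow_chk3 : ∀ k < 42, 2 ≤ k → 3 ^ k ∣ 4154781481226426191177580544000000 → ¬ 2 ^ 6 ∣ 3 ^ k - 3 := by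
  decide +kernel

theorem exists_pow (h : Spor.IsoB L) {s : ℕ} (hs : s.Prime) {P : Subgroup L} (hP : IsPGroup s P) (h0 : P ≠ ⊥) :
    ∃ k, 1 ≤ k ∧ Nat.card P = s ^ k ∧ s ^ k ∣ 4154781481226426191177580544000000 := by
  haveI : Fact s.Prime := ⟨hs⟩
  obtain ⟨k, hk⟩ := IsPGroup.iff_card.1 hP
  refine ⟨k, ?_, hk, ?_⟩
  · by_contra hlt
    rw [show k = 0 by omega, pow_zero, card_eq_one] at hk
    exact h0 hk
  · rw [← hk, ← NotCT.Orders.b h]
    exact card_subgroup_dvd_card P

/-- the normalizer of an elementary abelian 3-group -/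
theorem two_three (h : Spor.IsoB L) {E S : Subgroup L} (h0 : E ≠ ⊥) (h3 : ∀ x ∈ E, x ^ 3 = 1)
    (hc : ∀ x ∈ E, ∀ y ∈ E, x * y = y * x) (hS : Nat.card S = 2 ^ 22) (hSE : S ≤ normalizer (E : Set L)) : False := by
  haveI : Fact (Nat.Prime 3) := ⟨Nat.prime_three⟩
  have hE : IsPGroup 3 E := fun x => ⟨1, Subtype.ext (by rw [pow_one]; exact h3 x x.2)⟩
  have hS2 : IsPGroup 2 S := IsPGroup.of_card hS
  obtain ⟨k, hk1, hk, hkd⟩ := exists_pow h Nat.prime_three hE h0
  have hk42 := (pow_lt Nat.prime_three hkd hk1).2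
  have inv : ∀ g ∈ S, ∀ x ∈ (E : Set L) \ (⊥ : Subgroup L), g * x * g⁻¹ ∈ (E : Set L) \ (⊥ : Subgroup L) := by
    rintro g hg x ⟨hx, hx1⟩
    refine ⟨(mem_normalizer_iff.1 (hSE hg) x).1 hx, fun h1 => hx1 ?_⟩
    rw [SetLike.mem_coe, mem_bot] at h1 ⊢
    exact conj_eq_one_iff.1 h1
  have fi : Nat.card (⊤ : Subgroup Spor.Fi22) = 64561751654400 := by
    rw [card_top]
    exact NotCT.Orders.fi22 ⟨MulEquiv.refl _⟩
  have frame : ∀ x ∈ (E : Set L) \ (⊥ : Subgroup L), 2 ^ 14 ∣ Nat.card (S ⊓ centralizer ({x} : Set L) : Subgroup L) →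
      orderOf x = 3 ∧ Nonempty (H480.Ore.FiFrame x) := by
    rintro x ⟨hx, hx1⟩ hd
    have ho : orderOf x = 3 := orderOf_eq_prime (h3 x hx) (fun h1 => hx1 (by rw [h1]; exact one_mem _))
    refine ⟨ho, H604.RB.Three.frame_of_seven h ho ?_⟩
    by_contra h7
    have h4 := hd.trans (card_dvd_of_le (inf_le_right : S ⊓ centralizer ({x} : Set L) ≤ _))
    rw [cent_three h ho h7] at h4
    norm_num at h4
  by_cases hk2 : k = 1
  · obtain ⟨x, hx, hd⟩ := exists_orbit (j := 1) hS2 inv (by rw [ncard_diff bot_le, card_bot, hk, hk2]; norm_num)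
    rw [hS, show 22 = 1 + 21 by norm_num, pow_add] at hd
    have h4 := Nat.dvd_of_mul_dvd_mul_left (by norm_num) hd
    obtain ⟨ho, ⟨D⟩⟩ := frame x hx ((pow_dvd_pow 2 (by norm_num)).trans h4)
    have h5 := h4.trans (two_sub D ho (hS2.to_le inf_le_left) inf_le_right (W := ⊤) fun _ _ => mem_top _)
    rw [fi] at h5
    norm_num at h5
  obtain ⟨x, hx, hd⟩ := exists_orbit (j := 5) hS2 inv (by
    rw [ncard_diff bot_le, card_bot, hk]
    exact (pow_chk 3 (by simp) k hk42 hk1 hkd).1)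
  rw [hS, show 22 = 5 + 17 by norm_num, pow_add] at hd
  have h4 := Nat.dvd_of_mul_dvd_mul_left (by norm_num) hd
  obtain ⟨ho, ⟨D⟩⟩ := frame x hx ((pow_dvd_pow 2 (by norm_num)).trans h4)
  set S1 : Subgroup L := S ⊓ centralizer ({x} : Set L) with hS1
  have hxE : zpowers x ≤ E := zpowers_le.2 hx.1
  obtain ⟨y, ⟨hy, hy1⟩, hd1⟩ := exists_orbit (j := 5) (S := S1) (hS2.to_le inf_le_left)
    (X := (E : Set L) \ (zpowers x : Subgroup L)) (by
      rintro g hg y ⟨hy, hy1⟩
      refine ⟨(mem_normalizer_iff.1 (hSE hg.1) y).1 hy, fun h1 => hy1 ?_⟩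
      obtain ⟨i, hi⟩ := mem_zpowers_iff.1 h1
      refine mem_zpowers_iff.2 ⟨i, ?_⟩
      have h5 : g * x ^ i = x ^ i * g := (Commute.zpow_right (mem_centralizer_singleton_iff.1 hg.2) i).eq
      calc x ^ i = g⁻¹ * (x ^ i * g) * g⁻¹ * g := by rw [← h5]; group
        _ = y := by rw [hi]; group) (by
      rw [ncard_diff hxE, hk, Nat.card_zpowers, ho]
      exact pow_chk3 k hk42 (by omega) hkd)
  have h5 := h4.trans hd1
  rw [show 17 = 5 + 12 by norm_num, pow_add] at h5
  have h6 := Nat.dvd_of_mul_dvd_mul_left (by norm_num) h5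
  have hyx : y * x = x * y := hc y hy x hx.1
  have hyS : y ∈ D.S := by
    by_contra hyS
    have h7 := D.cover' hyx hyx hyS hyS
    apply hyS
    have h8 : y = (y * y) * (y * y) := by
      have h9 := h3 y hy
      calc y = y ^ 3 * y := by rw [h9, one_mul]
        _ = _ := by simp only [pow_succ, pow_zero, one_mul, mul_assoc]
    rw [h8]
    exact D.S.mul_mem h7 h7
  obtain ⟨i, f, hf⟩ := hyS
  have hjE : D.j f ∈ E := by
    have h7 : D.j f = (x ^ i)⁻¹ * y := by rw [hf]; group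
    rw [h7]
    exact E.mul_mem (E.inv_mem (E.zpow_mem hx.1 i)) hy
  have hf3 : orderOf f = 3 := by
    refine orderOf_eq_prime (D.inj ?_) ?_
    · rw [map_pow, h3 _ hjE, map_one]
    · rintro rfl
      apply hy1
      rw [hf, map_one, mul_one]
      exact zpow_mem (mem_zpowers x) i
  have h7 := h6.trans (two_sub D ho (U := S1 ⊓ centralizer ({y} : Set L))
    (hS2.to_le (inf_le_left.trans inf_le_left)) (inf_le_left.trans inf_le_right)
    (W := centralizer ({f} : Set Spor.Fi22)) fun g hg => by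
      rw [mem_centralizer_singleton_iff]
      apply D.inj
      have h8 := mem_centralizer_singleton_iff.1 hg.2
      have h9 : D.j g * x ^ i = x ^ i * D.j g := (Commute.zpow_right (D.comm g) i).eq
      rw [hf, ← mul_assoc, h9, mul_assoc, mul_assoc, mul_left_cancel_iff] at h8
      rw [map_mul, map_mul, h8])
  rw [show 12 = 1 + 11 by norm_num, pow_add, pow_one] at h7
  have h8 := Nat.dvd_of_mul_dvd_mul_left (by norm_num) h7
  rcases H759.Ore.Fi22Cent.cases (MulEquiv.refl Spor.Fi22) hf3 with h9 | h9 | h9 | h9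
  · rw [h9] at h8
    norm_num at h8
  · exact absurd (h8.trans h9.1) (by norm_num)
  · exact absurd (h8.trans h9) (by norm_num)
  · rw [h9] at h8
    norm_num at h8

/-- **The odd local subgroups of the Baby Monster.** -/
theorem oddF (big : Big) [IsSimpleGroup L] (h : Spor.IsoB L) : OddF L where
  card := NotCT.Orders.b h
  cent := fun _ hx => H243.BKillB.cent_b h hx
  two := by
    intro s hs hs2 P hP h0 hd
    obtain ⟨k, hk1, hk, hkd⟩ := exists_pow h hs hP h0
    obtain ⟨h1, hk42⟩ := pow_lt hs hkd hk1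
    by_cases hs3 : s = 3
    · subst hs3
      haveI : Fact (Nat.Prime 3) := ⟨Nat.prime_three⟩
      obtain ⟨K, hK⟩ := Sylow.exists_subgroup_card_pow_prime 2 hd
      have hK' : Nat.card (K.map (normalizer (P : Set L)).subtype) = 2 ^ 22 := by
        rw [card_map_of_injective (subtype_injective _), hK]
      have hA : (center P).map P.subtype ≠ ⊥ := by
        haveI : Nontrivial P := (nontrivial_iff_ne_bot P).2 h0
        rw [Ne, Subgroup.map_eq_bot_iff_of_injective _ P.subtype_injective, ← Ne, ← nontrivial_iff_ne_bot]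
        exact hP.center_nontrivial
      obtain ⟨E, r, hE, hr, hE0, hEr, hEn, -⟩ := Gen.exists_elab (H := normalizer (P : Set L))
        (A := (center P).map P.subtype) (by
          intro g hg
          refine mem_normalizer_fintype ?_
          rintro _ ⟨x, hx, rfl⟩
          refine ⟨⟨g * x * g⁻¹, (mem_normalizer_iff.1 hg x).1 x.2⟩, mem_center_iff.2 fun y => Subtype.ext ?_, rfl⟩
          have h2 : g⁻¹ * y * g ∈ P := by
            have h3 := (mem_normalizer_iff.1 (inv_mem hg) y).1 y.2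
            rwa [inv_inv] at h3
          have h3 : g⁻¹ * y * g * x = x * (g⁻¹ * y * g) := congrArg Subtype.val (mem_center_iff.1 hx ⟨_, h2⟩)
          change (y : L) * (g * x * g⁻¹) = g * x * g⁻¹ * y
          calc (y : L) * (g * x * g⁻¹) = g * (g⁻¹ * y * g * x) * g⁻¹ := by group
            _ = _ := by rw [h3]; group) hA (by
          rintro _ ⟨x, hx, rfl⟩ _ ⟨y, -, rfl⟩
          exact congrArg Subtype.val (mem_center_iff.1 hx y).symm)
      have hr3 : r = 3 := by
        obtain ⟨x, hx, hx1⟩ := (nontrivial_iff_exists_ne_one E).1 ((nontrivial_iff_ne_bot E).2 hE0)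
        haveI : Fact r.Prime := ⟨hr⟩
        have h2 := orderOf_eq_prime (hEr x hx) hx1
        have h3 := Subgroup.orderOf_dvd_natCard P (map_subtype_le _ (hE hx))
        rw [h2, hk] at h3
        exact (Nat.prime_dvd_prime_iff_eq hr Nat.prime_three).1 (hr.dvd_of_dvd_pow h3)
      subst hr3
      refine two_three h hE0 hEr ?_ hK' ((map_subtype_le _).trans hEn)
      intro x hx y hy
      obtain ⟨x', hx', rfl⟩ := hE hx
      obtain ⟨y', -, rfl⟩ := hE hy
      exact congrArg Subtype.val (mem_center_iff.1 hx' y').symm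
    obtain ⟨x, -, hx, hxd⟩ := exists_prime_cent (p := 2) (j := 5) (m := 17) hs hP (by
      rw [hk]
      exact (pow_chk s (by simp only [List.mem_cons, List.not_mem_nil, or_false]; omega) k hk42 hk1 hkd).1) hd
    exact (cent_five big h hs (by omega) hx).1 hxd
  three := by
    intro s hs hs3 P hP h0 hd
    haveI : Fact (Nat.Prime 3) := ⟨Nat.prime_three⟩
    obtain ⟨k, hk1, hk, hkd⟩ := exists_pow h hs hP h0
    obtain ⟨h1, hk42⟩ := pow_lt hs hkd hk1
    by_cases hs2 : s = 2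
    · subst hs2
      obtain ⟨x, -, hx, hxd⟩ := exists_prime_cent (p := 3) (j := 3) (m := 10) hs hP (by
        rw [hk]
        exact pow_chk2 k hk42 hk1) hd
      exact H844.Ore.BInv.not_three_B h hx hxd
    obtain ⟨x, -, hx, hxd⟩ := exists_prime_cent (p := 3) (j := 2) (m := 11) hs hP (by
      rw [hk]
      exact (pow_chk s (by simp only [List.mem_cons, List.not_mem_nil, or_false]; omega) k hk42 hk1 hkd).2 hs3) hd
    exact (cent_five big h hs (by omega) hx).2 hxd

end Cfsg.Agent.DS.B
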