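import Cfsg.Agent.R2.M7.Geo
import Cfsg.Agent.H848.GLAct
import Cfsg.Agent.H511.Wt.Dser
import Cfsg.Agent.DS.Gen.SD

/-!
# S5881, S5882, the box `BoxB`: the 2-local geometry of the Monster, abstract part (helper22)

`XF Γ` : the facts on the geometry.  `XF.main` : a solvable subgroup `H` of `C(t)`, `t` an involution which is not a
point, which is the normalizer in `C(t)` of all the 2-subgroups it normalizes and which is of characteristic two.
-/

set_option autoImplicit false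
set_option linter.style.haveILetI false

namespace Cfsg.Agent.DS.B

open Subgroup Cfsg.Agent.H936 Cfsg.Agent.H511.Wt Cfsg.Agent.R2.M7 Cfsg.Agent.H848.GLAct
open Cfsg.Agent.R2.M7.Geo (cj CC)
open scoped commutatorElement

section transv

variable {G : Type*} [Group G] {E : Subgroup G} {n : ℕ} {ι : V n → G}

/-- `g` induces the elementary transvection -/
def Tv (ι : V n → G) (i j : Fin n) (g : G) : Prop := ∀ x, g * ι x * g⁻¹ = ι (x + x j • Pi.single i 1)

theorem Tv.inv {i j : Fin n} (hij : i ≠ j) {g : G} (h : Tv ι i j g) : Tv ι i j g⁻¹ := by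
  intro x
  have h1 := h (x + x j • Pi.single i 1)
  have h2 : x + x j • (Pi.single i 1 : V n) + (x + x j • (Pi.single i 1 : V n)) j • (Pi.single i 1 : V n) = x := by
    rw [Pi.add_apply, Pi.smul_apply, Pi.single_eq_of_ne hij.symm, smul_zero, add_zero, add_assoc, ← add_smul,
      CharTwo.add_self_eq_zero, zero_smul, add_zero]
  rw [h2] at h1
  calc g⁻¹ * ι x * g⁻¹⁻¹ = g⁻¹ * (g * ι (x + x j • Pi.single i 1) * g⁻¹) * g⁻¹⁻¹ := by rw [h1]
    _ = _ := by group

theorem Tv.comm {i j k : Fin n} (hij : i ≠ j) (hjk : j ≠ k) (hik : i ≠ k) {a b : G} (ha : Tv ι i j a)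
    (hb : Tv ι j k b) : Tv ι i k ⁅a, b⁆ := by
  intro x
  have e : ⁅a, b⁆ * ι x * ⁅a, b⁆⁻¹ = a * (b * (a⁻¹ * (b⁻¹ * ι x * b⁻¹⁻¹) * a⁻¹⁻¹) * b⁻¹) * a⁻¹ := by
    rw [commutatorElement_def]
    group
  rw [e, hb.inv hjk, ha.inv hij, hb, ha]
  congr 1
  funext l
  have h2 : ∀ a : ZMod 2, a + a = 0 := by decide
  by_cases hl : l = i
  · subst hl
    simp only [Pi.add_apply, Pi.smul_apply, Pi.single_eq_same, Pi.single_eq_of_ne hij, Pi.single_eq_of_ne hij.symm,
      Pi.single_eq_of_ne hjk.symm, Pi.single_eq_of_ne hik.symm, smul_eq_mul]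
    generalize x l = p
    generalize x j = q
    generalize x k = r
    revert p q r
    decide
  by_cases hl' : l = j
  · subst hl'
    simp only [Pi.add_apply, Pi.smul_apply, Pi.single_eq_same, Pi.single_eq_of_ne hij.symm,
      Pi.single_eq_of_ne hjk.symm, Pi.single_eq_of_ne hik.symm, smul_eq_mul]
    generalize x l = p
    generalize x k = r
    revert p r
    decide
  · simp only [Pi.add_apply, Pi.smul_apply, Pi.single_eq_of_ne hl, Pi.single_eq_of_ne hl', smul_eq_mul, mul_zero,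
      add_zero]

theorem exists_third (hn : 3 ≤ n) (i k : Fin n) : ∃ j : Fin n, i ≠ j ∧ j ≠ k := by
  by_contra h
  push Not at h
  have h1 : (Finset.univ : Finset (Fin n)) ⊆ {i, k} := by
    intro j _
    by_cases h2 : i = j
    · simp [h2]
    · simp [h j h2]
  have h2 := (Finset.card_le_card h1).trans Finset.card_le_two
  rw [Finset.card_univ, Fintype.card_fin] at h2
  omega

theorem tv_dser (hn : 3 ≤ n) {Y : Subgroup G} (h : ∀ i j, i ≠ j → ∃ g ∈ Y, Tv ι i j g) (m : ℕ) :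
    ∀ i j, i ≠ j → ∃ g ∈ dser Y m, Tv ι i j g := by
  induction m with
  | zero => exact h
  | succ m ih =>
    intro i k hik
    obtain ⟨j, hij, hjk⟩ := exists_third hn i k
    obtain ⟨a, ha, ha'⟩ := ih i j hij
    obtain ⟨b, hb, hb'⟩ := ih j k hjk
    exact ⟨_, commutator_mem_commutator ha hb, ha'.comm hij hjk hik hb'⟩

/-- **A subgroup inducing the elementary transvections is not solvable.** -/
theorem not_solvable_of_tv (c : Coord E n ι) (hn : 3 ≤ n) {Y : Subgroup G}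
    (h : ∀ i j, i ≠ j → ∃ g ∈ Y, Tv ι i j g) : ¬ Group.IsSolvable Y := by
  rintro ⟨m, hm⟩
  obtain ⟨j, hij, -⟩ := exists_third hn ⟨0, by omega⟩ ⟨0, by omega⟩
  obtain ⟨g, hg, hg'⟩ := tv_dser hn h m _ j hij
  rw [(dser_eq_bot_iff Y m).2 hm, mem_bot] at hg
  have h1 := hg' (Pi.single j 1)
  rw [hg, one_mul, inv_one, mul_one] at h1
  have h2 := congrFun (c.inj h1) ⟨0, by omega⟩
  rw [Pi.add_apply, Pi.smul_apply, Pi.single_eq_same, Pi.single_eq_same, left_eq_add, smul_eq_mul, mul_one] at h2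
  exact one_ne_zero h2

end transv

variable {G : Type} [Group G]

/-- an involution which is not a point -/
def NP (Γ : Geo G) (a : G) : Prop := a * a = 1 ∧ a ≠ 1 ∧ a ∉ Γ.Pt

/-- the facts on the geometry -/
structure XF (Γ : Geo G) : Prop where
  facts : Γ.Facts
  mainC : Γ.MainC
  sep : ∀ z ∈ Γ.Pt, ∀ K : Subgroup G, K ≤ Γ.QQ z → z ∈ K → ∀ u ∈ Γ.QQ z, u ∉ K →
    ∃ q ∈ Γ.QQ z, (∀ k ∈ K, q * k = k * q) ∧ q * u ≠ u * q
  arkc : ∀ O ∈ Γ.Ark, ∀ z ∈ O, z ∈ Γ.Pt → ∀ q ∈ Γ.QQ z, (∀ a ∈ O, a ∈ Γ.QQ z → q * a = a * q) →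
    ∀ a ∈ O, q * a = a * q
  four : ∀ F : Subgroup G, Γ.Sing F → Nat.card F = 4 → SD 8 (normalizer (F : Set G))
  stab : ∀ O ∈ Γ.Ark, ∀ t ∈ O, NP Γ t → PS 6 (normalizer (O : Set G) ⊓ centralizer ({t} : Set G) : Subgroup G)
  one : ∀ z ∈ Γ.Pt, ∀ t ∈ Γ.QQ z, NP Γ t →
    ¬ Group.IsSolvable (centralizer ({z} : Set G) ⊓ centralizer ({t} : Set G) : Subgroup G)
  conjA : ∀ a b, NP Γ a → NP Γ b → ∃ g : G, g * a * g⁻¹ = b
  cls : ∀ t, NP Γ t → ∀ u ∈ Γ.Pt, ∀ v ∈ Γ.Pt, u * t = t * u → v * t = t * v → (t * u ∈ Γ.Pt ↔ t * v ∈ Γ.Pt) →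
    ∃ g : G, g * t = t * g ∧ g * u * g⁻¹ = v
  ark : ∃ O ∈ Γ.Ark, ∃ v ∈ O, v ∈ Γ.Pt
  syl : ∀ T : Subgroup G, IsPGroup 2 T → ∃ z ∈ Γ.Pt, ∀ x ∈ T, x * z = z * x

theorem kap_eq_zero {Γ : Geo G} {x : G} : Γ.kap x = 0 ↔ x = 1 ∨ x ∈ Γ.Pt := by
  unfold Geo.kap
  split_ifs with h
  · exact iff_of_true rfl h
  · exact iff_of_false one_ne_zero h

theorem kap_eq_one {Γ : Geo G} {x : G} (h1 : x ≠ 1) (h2 : x ∉ Γ.Pt) : Γ.kap x = 1 := by
  unfold Geo.kap
  rw [if_neg (by tauto)]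

theorem mem_cj {g x : G} {O : Subgroup G} : x ∈ cj g O ↔ g⁻¹ * x * g ∈ O := by
  constructor
  · rintro ⟨a, ha, rfl⟩
    have e : g⁻¹ * (MulAut.conj g).toMonoidHom a * g = a := by
      change g⁻¹ * (g * a * g⁻¹) * g = a
      group
    rwa [e]
  · intro h
    refine ⟨_, h, ?_⟩
    change g * (g⁻¹ * x * g) * g⁻¹ = x
    group

namespace XF

variable {Γ : Geo G} (X : XF Γ)
include X

theorem pt_conj_iff (g x : G) : g * x * g⁻¹ ∈ Γ.Pt ↔ x ∈ Γ.Pt := by
  refine ⟨fun h => ?_, fun h => X.facts.basic.pt_conj x h g⟩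
  have h1 := X.facts.basic.pt_conj _ h g⁻¹
  have e : g⁻¹ * (g * x * g⁻¹) * g⁻¹⁻¹ = x := by group
  rwa [e] at h1

theorem QQ_conj_iff {x : G} (hx : x ∈ Γ.Pt) (g q : G) : g * q * g⁻¹ ∈ Γ.QQ (g * x * g⁻¹) ↔ q ∈ Γ.QQ x := by
  refine ⟨fun h => ?_, X.facts.basic.QQ_conj x hx g q⟩
  have h1 := X.facts.basic.QQ_conj _ (X.facts.basic.pt_conj x hx g) g⁻¹ _ h
  have e : ∀ y : G, g⁻¹ * (g * y * g⁻¹) * g⁻¹⁻¹ = y := fun y => by group
  rwa [e, e] at h1

/-- the first example -/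
theorem ex_out {t : G} (ht : NP Γ t) : ∃ O ∈ Γ.Ark, t ∈ O ∧ ∃ v ∈ O, v ∈ Γ.Pt ∧ t * v ∈ Γ.Pt := by
  have A := X.facts.ark
  have B := X.facts.basic
  obtain ⟨O, hO, v, hv, hvP⟩ := X.ark
  obtain ⟨a, ha, hav⟩ := A.bet_nondeg O hO v hv (B.pt_ne v hvP)
  have hvv := B.pt_sq v hvP
  obtain ⟨b, hb, hb1, hb2⟩ : ∃ b ∈ O, Γ.kap b = 1 ∧ Γ.kap (b * v) = 0 := by
    unfold Geo.bet at hav
    rw [kap_eq_zero.2 (Or.inr hvP), add_zero] at hav
    have key : ∀ p q : ZMod 2, p + q = 1 → (p = 1 ∧ q = 0) ∨ (q = 1 ∧ p = 0) := by decide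
    rcases key _ _ hav with h | h
    · exact ⟨a * v, O.mul_mem ha hv, h.1, by rw [mul_assoc, hvv, mul_one]; exact h.2⟩
    · exact ⟨a, ha, h.1, h.2⟩
  have hb3 : ¬ (b = 1 ∨ b ∈ Γ.Pt) := by
    rw [← kap_eq_zero, hb1]
    exact one_ne_zero
  have hb4 : b * v ∈ Γ.Pt := by
    refine (kap_eq_zero.1 hb2).resolve_left fun h => hb3 (Or.inr ?_)
    have e : b = v := by
      calc b = b * v * v := by rw [mul_assoc, hvv, mul_one]
        _ = v := by rw [h, one_mul]
    rwa [e]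
  obtain ⟨g, hg⟩ := X.conjA b t ⟨A.sq O hO b hb, fun h => hb3 (Or.inl h), fun h => hb3 (Or.inr h)⟩ ht
  refine ⟨cj g O, A.conj O hO g, ⟨b, hb, hg⟩, g * v * g⁻¹, ⟨v, hv, rfl⟩, B.pt_conj v hvP g, ?_⟩
  have e : t * (g * v * g⁻¹) = g * (b * v) * g⁻¹ := by rw [← hg]; group
  rw [e]
  exact B.pt_conj _ hb4 g

/-- the second example -/
theorem ex_in [Finite G] {t : G} (ht : NP Γ t) : ∃ v ∈ Γ.Pt, t ∈ Γ.QQ v ∧ t * v ∉ Γ.Pt := by
  have A := X.facts.ark
  have B := X.facts.basic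
  obtain ⟨O, hO, v, hv, hvP⟩ := X.ark
  obtain ⟨c, hc, hc1, hcP⟩ : ∃ c ∈ O ⊓ Γ.QQ v, c ≠ 1 ∧ c ∉ Γ.Pt := by
    by_contra h
    push Not at h
    have h1 := A.ts_card O hO _ inf_le_left h
    have h2 : ((Γ.QQ v).subgroupOf O).index ∣ 2 := by
      rw [index_dvd_two_iff]
      obtain ⟨a, ha, hav⟩ := A.bet_nondeg O hO v hv (B.pt_ne v hvP)
      refine ⟨⟨a, ha⟩, fun b => ?_⟩
      rw [mem_subgroupOf, mem_subgroupOf, A.bet_iff O hO v hv hvP _ (b * ⟨a, ha⟩).2, A.bet_iff O hO v hv hvP _ b.2,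
        coe_mul, A.bet_mul O hO b b.2 a ha v hv, hav]
      generalize Γ.bet b v = p
      revert p
      decide
    have h3 := ((Γ.QQ v).subgroupOf O).index_mul_card
    rw [A.card O hO, ← card_map_of_injective O.subtype_injective, subgroupOf_map_subtype, inf_comm] at h3
    have h4 := Nat.mul_le_mul (Nat.le_of_dvd two_pos h2) h1
    omega
  have h5 := (A.bet_iff O hO v hv hvP c hc.1).1 hc.2
  unfold Geo.bet at h5
  rw [kap_eq_zero.2 (Or.inr hvP), add_zero, kap_eq_one hc1 hcP] at h5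
  have h6 : c * v ∉ Γ.Pt := by
    intro h
    rw [kap_eq_zero.2 (Or.inr h), zero_add] at h5
    exact one_ne_zero h5
  obtain ⟨g, hg⟩ := X.conjA c t ⟨A.sq O hO c hc.1, hc1, hcP⟩ ht
  refine ⟨g * v * g⁻¹, B.pt_conj v hvP g, hg ▸ B.QQ_conj v hvP g c hc.2, ?_⟩
  have e : t * (g * v * g⁻¹) = g * (c * v) * g⁻¹ := by rw [← hg]; group
  rw [e, X.pt_conj_iff]
  exact h6

/-- **The ark through `t` and a point `z` with `t ∉ Q_z`.** -/
theorem exists_ark [Finite G] {t z : G} (ht : NP Γ t) (hz : z ∈ Γ.Pt) (hzt : z * t = t * z) (hQ : t ∉ Γ.QQ z) :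
    ∃ O ∈ Γ.Ark, z ∈ O ∧ t ∈ O := by
  have A := X.facts.ark
  have B := X.facts.basic
  have h1 : t * z ∈ Γ.Pt := by
    by_contra h1
    obtain ⟨v, hv, htv, h2⟩ := X.ex_in ht
    obtain ⟨g, hg, hgv⟩ := X.cls t ht v hv z hz (B.QQ_comm v hv t htv).symm hzt (iff_of_false h2 h1)
    apply hQ
    have h3 := B.QQ_conj v hv g t htv
    rwa [hgv, hg, mul_inv_cancel_right] at h3
  obtain ⟨O, hO, htO, v, hv, hvP, h2⟩ := X.ex_out ht
  obtain ⟨g, hg, hgv⟩ := X.cls t ht v hvP z hz (A.comm O hO v hv t htO) hzt (iff_of_true h2 h1)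
  refine ⟨cj g O, A.conj O hO g, ⟨v, hv, hgv⟩, t, htO, ?_⟩
  change g * t * g⁻¹ = t
  rw [hg, mul_inv_cancel_right]

theorem sing_comm {F : Subgroup G} (hF : Γ.Sing F) : ∀ a ∈ F, ∀ b ∈ F, a * b = b * a := by
  intro a ha b hb
  by_cases h : b = 1
  · rw [h, mul_one, one_mul]
  · exact X.facts.basic.QQ_comm b (hF.1 b hb h) a (hF.2 b hb h a ha)

theorem sing_sq {F : Subgroup G} (hF : Γ.Sing F) : ∀ a ∈ F, a * a = 1 := by
  intro a ha
  by_cases h : a = 1
  · rw [h, mul_one]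
  · exact X.facts.basic.pt_sq a (hF.1 a ha h)

/-- **Transvections on a singular subgroup.** -/
theorem exists_tv {F : Subgroup G} (hF : Γ.Sing F) {n : ℕ} {ι : V n → G} (c : Coord F n ι) {i j : Fin n} (hij : i ≠ j)
    {A : Subgroup G} (hA : A ≤ Γ.QQ (ι (Pi.single i 1))) (hAF : ∀ a ∈ A, ∀ f ∈ F, a * f = f * a)
    (hA1 : ∀ a ∈ A, a ∈ F → a = 1 ∨ a = ι (Pi.single i 1)) :
    ∃ q ∈ Γ.QQ (ι (Pi.single i 1)), (∀ a ∈ A, q * a = a * q) ∧ Tv ι i j q := by
  have B := X.facts.basic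
  set z := ι (Pi.single i 1) with hz
  have hzF : z ∈ F := c.ι_mem _
  have hz1 : z ≠ 1 := by
    intro h
    rw [← c.zero] at h
    have h1 := congrFun (c.inj h) i
    rw [Pi.single_eq_same] at h1
    exact one_ne_zero h1
  have hzP := hF.1 z hzF hz1
  have hinv : ∀ x, (ι x)⁻¹ = ι x := fun x => inv_eq_of_mul_eq_one_left (X.sing_sq hF _ (c.ι_mem x))
  let K : Subgroup G :=
    { carrier := {g | ∃ x : V n, x j = 0 ∧ ∃ a ∈ A, g = ι x * a}
      one_mem' := ⟨0, rfl, 1, A.one_mem, by rw [c.zero, mul_one]⟩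
      mul_mem' := by
        rintro _ _ ⟨x, hx, a, ha, rfl⟩ ⟨y, hy, b, hb, rfl⟩
        refine ⟨x + y, by rw [Pi.add_apply, hx, hy, add_zero], a * b, A.mul_mem ha hb, ?_⟩
        rw [c.add]
        calc ι x * a * (ι y * b) = ι x * (a * ι y) * b := by group
          _ = _ := by rw [hAF a ha _ (c.ι_mem y)]; group
      inv_mem' := by
        rintro _ ⟨x, hx, a, ha, rfl⟩
        refine ⟨x, hx, a⁻¹, A.inv_mem ha, ?_⟩
        rw [mul_inv_rev, hinv, hAF _ (A.inv_mem ha) _ (c.ι_mem x)] }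
  obtain ⟨q, hq, hqK, hqu⟩ := X.sep z hzP K (by
      rintro _ ⟨x, -, a, ha, rfl⟩
      exact (Γ.QQ z).mul_mem (hF.2 z hzF hz1 _ (c.ι_mem x)) (hA ha))
    ⟨Pi.single i 1, Pi.single_eq_of_ne hij.symm _, 1, A.one_mem, by rw [mul_one]⟩ (ι (Pi.single j 1))
    (hF.2 z hzF hz1 _ (c.ι_mem _)) (by
      rintro ⟨x, hx, a, ha, h1⟩
      have h2 : a = ι (x + Pi.single j 1) := by
        rw [c.add, h1, ← mul_assoc, X.sing_sq hF _ (c.ι_mem x), one_mul]
      rcases hA1 a ha (h2 ▸ c.ι_mem _) with h3 | h3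
      · rw [h3, ← c.zero] at h2
        have h4 := congrFun (c.inj h2) j
        rw [Pi.add_apply, hx, Pi.single_eq_same, zero_add] at h4
        exact one_ne_zero h4.symm
      · rw [h3] at h2
        have h4 := congrFun (c.inj h2) j
        rw [Pi.add_apply, hx, Pi.single_eq_same, zero_add, Pi.single_eq_of_ne hij.symm] at h4
        exact one_ne_zero h4.symm)
  refine ⟨q, hq, fun a ha => hqK a ⟨0, rfl, a, ha, by rw [c.zero, one_mul]⟩, fun x => ?_⟩
  have h0 : ∀ y : V n, y j = 0 → q * ι y * q⁻¹ = ι y := fun y hy => by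
    rw [hqK _ ⟨y, hy, 1, A.one_mem, by rw [mul_one]⟩, mul_inv_cancel_right]
  have key : ∀ a : ZMod 2, a = 0 ∨ a = 1 := by decide
  rcases key (x j) with h1 | h1
  · rw [h0 x h1, h1, zero_smul, add_zero]
  · have h2 : q * ι (Pi.single j 1) * q⁻¹ = z * ι (Pi.single j 1) := by
      rcases B.QQ_der z hzP q hq _ (hF.2 z hzF hz1 _ (c.ι_mem (Pi.single j 1))) with h3 | h3
      · exact absurd (mul_inv_eq_iff_eq_mul.1 (mul_inv_eq_one.1 h3)) hqu
      · exact mul_inv_eq_iff_eq_mul.1 h3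
    have h3 : x = (x + Pi.single j 1) + Pi.single j 1 := by
      funext l
      rw [Pi.add_apply, Pi.add_apply, add_assoc, CharTwo.add_self_eq_zero, add_zero]
    have h4 := h0 (x + Pi.single j 1) (by rw [Pi.add_apply, h1, Pi.single_eq_same]; rfl)
    rw [h1, one_smul]
    calc q * ι x * q⁻¹ = q * ι (x + Pi.single j 1) * q⁻¹ * (q * ι (Pi.single j 1) * q⁻¹) := by
          conv_lhs => rw [h3, c.add]
          group
      _ = ι (x + Pi.single j 1 + (Pi.single i 1 + Pi.single j 1)) := by rw [h4, h2, c.add _ (_ + _), c.add (Pi.single i 1)]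
      _ = _ := by
          congr 1
          rw [add_comm (Pi.single i 1), ← add_assoc, ← h3]

section main

variable [Finite G] {t : G} (ht : NP Γ t) {H : Subgroup G} (hH : H ≤ centralizer ({t} : Set G))
  (hsol : Group.IsSolvable H)
  (hmax : ∀ A : Subgroup G, IsPGroup 2 A → A ≤ centralizer ({t} : Set G) → (∃ a ∈ A, a ≠ 1 ∧ a ≠ t) →
    H ≤ normalizer (A : Set G) → normalizer (A : Set G) ⊓ centralizer ({t} : Set G) = H)
include ht hmax

omit [Finite G] in
theorem ark_case {O : Subgroup G} (hO : O ∈ Γ.Ark) (htO : t ∈ O) (hHO : H ≤ normalizer (O : Set G)) : PS 8 H := by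
  have A := X.facts.ark
  have h1 := hmax O (IsPGroup.of_card (A.card O hO))
    (fun a ha => mem_centralizer_singleton_iff.2 (A.comm O hO a ha t htO)) (by
      obtain ⟨b, hb, h2⟩ := A.bet_nondeg O hO t htO ht.2.1
      unfold Geo.bet at h2
      refine ⟨b, hb, ?_, ?_⟩
      · rintro rfl
        rw [one_mul, kap_eq_zero.2 (Or.inl rfl), add_zero, CharTwo.add_self_eq_zero] at h2
        exact zero_ne_one h2
      · rintro rfl
        rw [ht.1, kap_eq_zero.2 (Or.inl rfl), zero_add, CharTwo.add_self_eq_zero] at h2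
        exact zero_ne_one h2) hHO
  rw [← h1]
  exact (X.stab O hO t htO ht).mono (by norm_num)

include hH hsol

theorem sing_case {F : Subgroup G} (hF : Γ.Sing F) (h0 : F ≠ ⊥) (hFt : ∀ f ∈ F, f * t = t * f)
    (hHF : H ≤ normalizer (F : Set G))
    (hd : (∀ v ∈ F, v ≠ 1 → t ∈ Γ.QQ v) ∨ ∀ v ∈ F, v ≠ 1 → t ∉ Γ.QQ v) : PS 8 H := by
  have A := X.facts.ark
  have B := X.facts.basic
  have hF2 : IsPGroup 2 F := fun x => ⟨1, Subtype.ext (by
    rw [pow_one, pow_two]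
    exact X.sing_sq hF x x.2)⟩
  obtain ⟨z, hz, hz1⟩ := (nontrivial_iff_exists_ne_one F).1 ((nontrivial_iff_ne_bot F).2 h0)
  have hzP := hF.1 z hz hz1
  have h1 := hmax F hF2 (fun a ha => mem_centralizer_singleton_iff.2 (hFt a ha))
    ⟨z, hz, hz1, fun h => ht.2.2 (h ▸ hzP)⟩ hHF
  obtain ⟨n, hn⟩ := IsPGroup.iff_card.1 hF2
  by_cases hn1 : n ≤ 1
  · have h2 : zpowers z = F := by
      refine eq_of_le_of_card_ge (zpowers_le.2 hz) ?_
      rw [Nat.card_zpowers, orderOf_eq_prime (p := 2) (by rw [pow_two]; exact B.pt_sq z hzP) hz1, hn]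
      exact (Nat.pow_le_pow_right two_pos hn1).trans (by norm_num)
    have h3 : ∀ f ∈ F, f ≠ 1 → f = z := by
      intro f hf hf1
      rw [← h2] at hf
      obtain ⟨k, rfl⟩ := mem_zpowers_iff.1 hf
      have h4 : z ^ (2 : ℤ) = 1 := by rw [zpow_two]; exact B.pt_sq z hzP
      rcases Int.emod_two_eq_zero_or_one k with h5 | h5
      · exact absurd (by rw [zpow_eq_zpow_emod k h4, h5, zpow_zero]) hf1
      · rw [zpow_eq_zpow_emod k h4, h5, zpow_one]
    rcases hd with hd | hd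
    · exfalso
      refine X.one z hzP t (hd z hz hz1) ht ?_
      have h4 : centralizer ({z} : Set G) ⊓ centralizer ({t} : Set G) ≤ H := by
        rw [← h1]
        refine inf_le_inf_right _ fun g hg => mem_normalizer_fintype fun f hf => ?_
        by_cases hf1 : f = 1
        · rw [hf1, mul_one, mul_inv_cancel]
          exact F.one_mem
        · rw [h3 f hf hf1, mem_centralizer_singleton_iff.1 hg, mul_inv_cancel_right]
          exact hz
      exact Group.isSolvable_of_isSolvable_injective (f := inclusion h4) (inclusion_injective h4)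
    · obtain ⟨O, hO, hzO, htO⟩ := X.exists_ark ht hzP (hFt z hz) (hd z hz hz1)
      refine X.ark_case ht hmax hO htO fun g hg => ?_
      have h4 : g * z * g⁻¹ = z := h3 _ ((mem_normalizer_iff.1 (hHF hg) z).1 hz) (by rwa [Ne, conj_eq_one_iff])
      have h5 : g * t * g⁻¹ = t := by rw [mem_centralizer_singleton_iff.1 (hH hg), mul_inv_cancel_right]
      have h6 := A.unique _ (A.conj O hO g) O hO z hzP ⟨z, hzO, h4⟩ hzO t (mem_sup_right ⟨t, htO, h5⟩)
        (mem_sup_right htO) (hd z hz hz1)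
      refine mem_normalizer_fintype fun a ha => ?_
      rw [← h6]
      exact ⟨a, ha, rfl⟩
  by_cases hn2 : n = 2
  · have h2 := X.four F hF (by rw [hn, hn2]; norm_num)
    exact Gen.ps_of_sd (Gen.SD.of_inj (inclusion hHF) (inclusion_injective hHF) h2)
  exfalso
  obtain ⟨ι, c⟩ := exists_iota F (X.sing_comm hF) (X.sing_sq hF) hn
  refine not_solvable_of_tv c (by omega) (fun i j hij => ?_) hsol
  have key : ∀ q, Tv ι i j q → q * t = t * q → ∃ g ∈ H, Tv ι i j g := by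
    intro q hq hqt
    refine ⟨q, ?_, hq⟩
    rw [← h1]
    refine ⟨mem_normalizer_fintype fun f hf => ?_, mem_centralizer_singleton_iff.2 hqt⟩
    obtain ⟨x, rfl⟩ := (c.mem f).1 hf
    rw [hq x]
    exact c.ι_mem _
  set v := ι (Pi.single i 1) with hv
  have hvF : v ∈ F := c.ι_mem _
  have hv1 : v ≠ 1 := by
    intro h
    rw [← c.zero] at h
    have h2 := congrFun (c.inj h) i
    rw [Pi.single_eq_same] at h2
    exact one_ne_zero h2
  have hvP := hF.1 v hvF hv1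
  rcases hd with hd | hd
  · obtain ⟨q, -, hq1, hq2⟩ := X.exists_tv hF c hij (A := zpowers t) (zpowers_le.2 (hd v hvF hv1)) (by
      rintro _ ⟨k, rfl⟩ f hf
      exact ((show Commute f t from hFt f hf).zpow_right k).eq.symm) (by
      rintro _ ⟨k, rfl⟩ hk
      left
      have h4 : t ^ (2 : ℤ) = 1 := by rw [zpow_two]; exact ht.1
      change t ^ k = 1
      change t ^ k ∈ F at hk
      rcases Int.emod_two_eq_zero_or_one k with h5 | h5
      · rw [zpow_eq_zpow_emod k h4, h5, zpow_zero]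
      · rw [zpow_eq_zpow_emod k h4, h5, zpow_one] at hk
        exact absurd (hF.1 t hk ht.2.1) ht.2.2)
    exact key q hq2 (hq1 t (mem_zpowers t))
  · obtain ⟨O, hO, hvO, htO⟩ := X.exists_ark ht hvP (hFt v hvF) (hd v hvF hv1)
    obtain ⟨q, hq, hq1, hq2⟩ := X.exists_tv hF c hij (A := O ⊓ Γ.QQ v) inf_le_right (by
      intro a ha f hf
      exact mem_centralizer_iff.1 (A.cent_le O hO v hvO hvP t (mem_sup_right htO) (hd v hvF hv1) f
        (hF.2 v hvF hv1 f hf) (hFt f hf)) a ha.1) (by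
      intro a ha haF
      by_contra hne
      push Not at hne
      have h2 : a * v ≠ 1 := by
        intro h
        apply hne.2
        calc a = a * v * v := by rw [mul_assoc, B.pt_sq v hvP, mul_one]
          _ = v := by rw [h, one_mul]
      have h3 : ∀ w ∈ F, w ∈ O → w ≠ 1 → Γ.bet w t = 1 := by
        intro w hw hwO hw1
        have h4 := hd w hw hw1
        rw [A.bet_iff O hO w hwO (hF.1 w hw hw1) t htO] at h4
        have h5 : Γ.bet w t = Γ.bet t w := by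
          unfold Geo.bet
          rw [hFt w hw]
          ring
        rw [h5]
        revert h4
        generalize Γ.bet t w = p
        revert p
        decide
      have h4 := A.bet_mul O hO a ha.1 v hvO t htO
      rw [h3 _ (F.mul_mem haF hvF) (O.mul_mem ha.1 hvO) h2, h3 a haF ha.1 hne.1, h3 v hvF hvO hv1] at h4
      revert h4
      decide)
    exact key q hq2 (X.arkc O hO v hvO hvP q hq (fun a ha ha' => hq1 a ⟨ha, ha'⟩) t htO)

/-- **The main argument.** -/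
theorem main {T : Subgroup G} (hT : IsPGroup 2 T) (htT : t ∈ T) (hTH : T ≤ H) (hHT : H ≤ normalizer (T : Set G))
    (hC : centralizer (T : Set G) ≤ T) : PS 8 H := by
  have B := X.facts.basic
  let Z : Subgroup G :=
    { carrier := {x | x * x = 1 ∧ ∀ s ∈ T, s * x = x * s}
      one_mem' := ⟨mul_one _, fun s _ => by rw [mul_one, one_mul]⟩
      mul_mem' := by
        rintro a b ⟨ha, ha'⟩ ⟨hb, hb'⟩
        refine ⟨?_, fun s hs => by rw [← mul_assoc, ha' s hs, mul_assoc, hb' s hs, mul_assoc]⟩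
        have h1 := hb' a (hC (mem_centralizer_iff.2 ha'))
        calc a * b * (a * b) = a * (b * a) * b := by group
          _ = (a * a) * (b * b) := by rw [← h1]; group
          _ = 1 := by rw [ha, hb, mul_one]
      inv_mem' := by
        rintro a ⟨ha, ha'⟩
        rw [inv_eq_of_mul_eq_one_left ha]
        exact ⟨ha, ha'⟩ }
  have hS : Γ.Sit T Z :=
    { two := hT
      comm := fun x hx => hx.2
      ab := fun x hx y hy => hy.2 x (hC (mem_centralizer_iff.2 hx.2))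
      sq := fun x hx => hx.1
      all := fun x h1 h2 => ⟨h1, h2⟩
      pt := by
        obtain ⟨z, hz, hz'⟩ := X.syl T hT
        exact ⟨z, ⟨B.pt_sq z hz, hz'⟩, hz⟩ }
  have hHZ : ∀ g ∈ H, ∀ x ∈ Z, g * x * g⁻¹ ∈ Z := by
    rintro g hg x ⟨hx, hx'⟩
    refine ⟨?_, fun s hs => ?_⟩
    · calc g * x * g⁻¹ * (g * x * g⁻¹) = g * (x * x) * g⁻¹ := by group
        _ = 1 := by rw [hx]; group
    · have h1 := hx' _ ((mem_normalizer_iff.1 (hHT (H.inv_mem hg)) s).1 hs)
      calc s * (g * x * g⁻¹) = g * (g⁻¹ * s * g⁻¹⁻¹ * x) * g⁻¹ := by group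
        _ = _ := by rw [h1]; group
  have hTt : ∀ s ∈ T, s * t = t * s := fun s hs => mem_centralizer_singleton_iff.1 (hH (hTH hs))
  rcases X.mainC T Z hS with hZ | ⟨F, h0, hFZ, hF, hinv⟩
  · exact X.ark_case ht hmax hZ ⟨ht.1, hTt⟩ fun g hg => mem_normalizer_fintype (hHZ g hg)
  have hFt : ∀ f ∈ F, f * t = t * f := fun f hf => ((hFZ hf).2 t htT).symm
  have hHF : ∀ g ∈ H, ∀ x ∈ F, g * x * g⁻¹ ∈ F := fun g hg => hinv g (hHZ g hg)
  let F0 : Subgroup G :=
    { carrier := {v | v ∈ F ∧ (v ≠ 1 → t ∈ Γ.QQ v)}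
      one_mem' := ⟨F.one_mem, fun h => absurd rfl h⟩
      mul_mem' := by
        rintro a b ⟨ha, ha'⟩ ⟨hb, hb'⟩
        refine ⟨F.mul_mem ha hb, fun h => ?_⟩
        by_cases ha1 : a = 1
        · rw [ha1, one_mul] at h ⊢
          exact hb' h
        by_cases hb1 : b = 1
        · rw [hb1, mul_one] at h ⊢
          exact ha' h
        refine B.line_inf a (hF.1 a ha ha1) b (hF.1 b hb hb1) ?_ (hF.2 a ha ha1 b hb) t (ha' ha1) (hb' hb1)
        rintro rfl
        exact h (X.sing_sq hF a ha)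
      inv_mem' := by
        rintro a ⟨ha, ha'⟩
        rw [inv_eq_of_mul_eq_one_left (X.sing_sq hF a ha)]
        exact ⟨ha, ha'⟩ }
  by_cases h1 : F0 = ⊥
  · refine X.sing_case ht hH hsol hmax hF h0 hFt (fun g hg => mem_normalizer_fintype (hHF g hg))
      (Or.inr fun v hv hv1 h2 => hv1 ?_)
    rw [← mem_bot, ← h1]
    exact ⟨hv, fun _ => h2⟩
  · refine X.sing_case ht hH hsol hmax (F := F0) ⟨fun x hx => hF.1 x hx.1, fun x hx hx1 y hy => hF.2 x hx.1 hx1 y hy.1⟩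
      h1 (fun f hf => hFt f hf.1) (fun g hg => mem_normalizer_fintype ?_) (Or.inl fun v hv => hv.2)
    rintro x ⟨hx, hx'⟩
    refine ⟨hHF g hg x hx, fun h2 => ?_⟩
    have h3 : x ≠ 1 := by rwa [Ne, conj_eq_one_iff] at h2
    have h4 := B.QQ_conj x (hF.1 x hx h3) g t (hx' h3)
    rwa [mem_centralizer_singleton_iff.1 (hH hg), mul_inv_cancel_right] at h4

end main

end XF

end Cfsg.Agent.DS.B
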