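import Cfsg.Agent.DS.B.Mon
import Cfsg.Agent.H877.SK.B.Ctx
import Cfsg.Agent.H820.Model
import Cfsg.Agent.BpSpor.MBigEleven

/-!
# S5881, S5882, the box `BoxB`: the geometry of the model of the Monster (helper22)

`exists_xf` : a geometry with the facts `XF` in which the elements of class 2A are not points.
-/

set_option autoImplicit false
set_option linter.style.haveILetI false
set_option maxRecDepth 100000

namespace Cfsg.Agent.DS.B

open Cfsg Subgroup Cfsg.Agent.R2.M7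
open Cfsg.Agent.R2.H4.Mon.Frm Cfsg.Agent.R2.H4.Mon.GeoInst Cfsg.Agent.R2.H10.Mon.TwoA

/-- the classes of the points commuting with `t` -/
theorem cls_abs {G : Type*} [Group G] {z t : G} (hz : z * z = 1) (hz1 : z ≠ 1) (ht : ¬ TwoB z t)
    {s f a d : centralizer ({t} : Set G)} (hss : s * s = 1) (hs : (s : G) = t)
    (hcl : ∀ u : centralizer ({t} : Set G), u * u = 1 → u ≠ 1 → u ≠ s →
      IsConj f u ∨ IsConj a u ∨ IsConj (s * a) u ∨ IsConj d u)
    (hf : ¬ TwoB z f) (ha : ¬ TwoB z a) (hd : TwoB z (t * d)) {u v : G} (hu : TwoB z u) (hv : TwoB z v)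
    (hut : u * t = t * u) (hvt : v * t = t * v) (huv : TwoB z (t * u) ↔ TwoB z (t * v)) :
    ∃ g : G, g * t = t * g ∧ g * u * g⁻¹ = v := by
  have cj : ∀ {x y : centralizer ({t} : Set G)}, IsConj x y →
      (TwoB z x ↔ TwoB z y) ∧ (TwoB z (t * x) ↔ TwoB z (t * y)) := by
    intro x y h
    obtain ⟨g, rfl⟩ := isConj_iff.1 h
    refine ⟨(twoB_conj_iff (g : G)).symm, ?_⟩
    have e : t * ((g * x * g⁻¹ : centralizer ({t} : Set G)) : G) = g * (t * x) * (g : G)⁻¹ := by
      rw [← mul_assoc (g : G), mem_centralizer_singleton_iff.1 g.2]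
      simp only [coe_mul, coe_inv, mul_assoc]
    rw [e, twoB_conj_iff]
  have key : ∀ (w : G) (hw : TwoB z w) (hwt : w * t = t * w),
      (TwoB z (t * w) → IsConj d ⟨w, mem_centralizer_singleton_iff.2 hwt⟩) ∧
      (¬ TwoB z (t * w) → IsConj (s * a) ⟨w, mem_centralizer_singleton_iff.2 hwt⟩) := by
    intro w hw hwt
    obtain ⟨k, hk⟩ := id hw
    have h1 : w * w = 1 := by
      calc w * w = k * (z * z) * k⁻¹ := by rw [← hk]; group
        _ = 1 := by rw [hz]; group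
    have h2 : w ≠ 1 := by
      rw [← hk, Ne, conj_eq_one_iff]
      exact hz1
    rcases hcl ⟨w, mem_centralizer_singleton_iff.2 hwt⟩ (Subtype.ext h1) (fun h => h2 (congrArg Subtype.val h))
      (fun h => ht (by rw [← hs, ← h]; exact hw)) with h | h | h | h
    · exact absurd ((cj h).1.2 hw) hf
    · exact absurd ((cj h).1.2 hw) ha
    · refine ⟨fun h4 => absurd ?_ ha, fun _ => h⟩
      have h5 := (cj h).2.2 h4
      have h6 : t * ((s * a : centralizer ({t} : Set G)) : G) = a := by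
        have h7 : (s : G) * s = 1 := congrArg Subtype.val hss
        rw [hs] at h7
        rw [coe_mul, hs, ← mul_assoc, h7, one_mul]
      rwa [h6] at h5
    · exact ⟨fun _ => h, fun h4 => absurd ((cj h).2.1 hd) h4⟩
  by_cases h : TwoB z (t * u)
  · obtain ⟨g, hg⟩ := isConj_iff.1 (((key u hu hut).1 h).symm.trans ((key v hv hvt).1 (huv.1 h)))
    exact ⟨g, mem_centralizer_singleton_iff.1 g.2, congrArg Subtype.val hg⟩
  · obtain ⟨g, hg⟩ := isConj_iff.1 (((key u hu hut).2 h).symm.trans ((key v hv hvt).2 fun h1 => h (huv.2 h1)))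
    exact ⟨g, mem_centralizer_singleton_iff.1 g.2, congrArg Subtype.val hg⟩

section model

open Cfsg.Agent.MonsterX Cfsg.Agent.MonsterX.InstData Cfsg.Agent.MonsterX.MainPack Cfsg.Agent.MonsterU
open Cfsg.Agent.MonsterP Cfsg.Agent.MonsterN Cfsg.Agent.LThree
open Cfsg.Agent.MonsterX.MainBasic Cfsg.Agent.MonsterX.MainSimple Cfsg.Agent.MonsterX.Model
open Cfsg.Agent.LThreeB.Row (TA)
open Cfsg.Agent.MThirteen Cfsg.Agent.MThirteen.TwoARow
open Cfsg.Agent.R2.H4.Mon.MonFr
open Cfsg.Agent.LThreeMB (KChart.Cent KChart.pi KChart.chart KChart.pi_eq)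

theorem cls_model {t : ↥InstData.M.G} (ht : IsA KDone.K.z t) {u v : ↥InstData.M.G} (hu : TwoB KDone.K.z u)
    (hv : TwoB KDone.K.z v) (hut : u * t = t * u) (hvt : v * t = t * v)
    (huv : TwoB KDone.K.z (t * u) ↔ TwoB KDone.K.z (t * v)) : ∃ g : ↥InstData.M.G, g * t = t * g ∧ g * u * g⁻¹ = v := by
  obtain ⟨f₁, f₂, f₃, f₄, Fc, -, hcd, hca, p, hp, hp2, -⟩ := H877.SK.B.exists_facts LitFin.all KDone.lnk KDone.lft
    (TauInst.tauHyp (Final.cent InstanceFinal.mOrbit Instance.mTrans)) KDone.lnk.x₀_mem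
  obtain ⟨g, hg⟩ := exists_conj (ta_of_isA ht)
  have hL := (KChart.chart KDone.lft hc).large
  have h0 : ¬ TwoB KDone.K.z (KDone.K.ι KLinkInst.x₀) := by
    rw [← hg, twoB_conj_iff]
    exact ht.2.2
  have hm : ∀ {w : ↥InstData.M.G}, w * t = t * w →
      g * w * g⁻¹ * KDone.K.ι KLinkInst.x₀ = KDone.K.ι KLinkInst.x₀ * (g * w * g⁻¹) := by
    intro w hw
    rw [← hg]
    calc g * w * g⁻¹ * (g * t * g⁻¹) = g * (w * t) * g⁻¹ := by group
      _ = _ := by rw [hw]; group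
  have he : ∀ w : ↥InstData.M.G, KDone.K.ι KLinkInst.x₀ * (g * w * g⁻¹) = g * (t * w) * g⁻¹ := by
    intro w
    rw [← hg]
    group
  obtain ⟨k, hk, hkv⟩ := cls_abs hL.z_sq hL.z_ne h0 (s := LitInst.tb KDone.K KLinkInst.x₀) Fc.t_sq rfl Fc.classes
    (by rw [hp]; exact (isA_of_ta (BpSpor.MBigModel.ta_iota hp2)).2.2)
    (fun h => h0 (h.trans (isConj_iff.1 hca.symm)))
    (TwoB.trans (isConj_iff.1 hcd) (isConj_iff.1 ((LitInst.BB KDone.K KLinkInst.x₀).subtype.map_isConj Fc.d_t)))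
    (hu.conj g) (hv.conj g) (hm hut) (hm hvt) (by rw [he, he, twoB_conj_iff, twoB_conj_iff]; exact huv)
  refine ⟨g⁻¹ * k * g, ?_, ?_⟩
  · rw [← hg] at hk
    calc g⁻¹ * k * g * t = g⁻¹ * (k * (g * t * g⁻¹)) * g := by group
      _ = _ := by rw [hk]; group
  · calc g⁻¹ * k * g * u * (g⁻¹ * k * g)⁻¹ = g⁻¹ * (k * (g * u * g⁻¹) * k⁻¹) * g := by group
      _ = _ := by rw [hkv]; group

/-- **The geometry of the model.** -/
theorem exists_xf : ∃ Γ : Geo ↥InstData.M.G, XF Γ ∧ ∀ t, TA t → NP Γ t := by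
  haveI := finite_model
  haveI := simple_model
  have h := KChart.chart KDone.lft hc
  obtain ⟨g, h1, h2, -⟩ := Cfsg.Agent.MonsterU.Fused.exists_type_four h
  obtain ⟨s, τ, h3, h4, h5⟩ := Cfsg.Agent.MonsterU.AmalSideOf.exists_frame h h1 h2 ⟨g, rfl⟩
  obtain ⟨o, ho⟩ := exists_octad
  obtain ⟨τ', F, hE⟩ := Fr.exists_TE
    { ch := h.smul s
      hyQ := h1
      hy := h5
      τz := h3
      τy := h4
      noB := noB_smul noB_model s }
  refine ⟨geo F.ch o, xf_of ho F hE (fun a b ha hb => afacts_model.conj a b ha hb)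
    (fun t ht u hu v hv => cls_model ht hu hv) ?_, fun t ht => isA_of_ta ht⟩
  intro h6
  have h7 := (centralizer ({KDone.K.z} : Set ↥InstData.M.G)).card_mul_index
  rw [H820.Model.card_cent_z, MThirteen.Row.card_M] at h7
  have h8 := Nat.mul_dvd_mul_left (4157776806543360000 * 2 ^ 25) h6
  rw [h7] at h8
  norm_num at h8

end model

end Cfsg.Agent.DS.B
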