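import Cfsg.Agent.DS.B.Cent
import Cfsg.Agent.DS.B.Model
import Cfsg.Agent.H979.OddB
import Cfsg.Agent.S1704
import Cfsg.Agent.S2084

/-!
# S5881, S5882: the box `BoxB` (helper22)
-/

set_option autoImplicit false
set_option linter.style.haveILetI false

namespace Cfsg.Agent.DS.B

open Cfsg Subgroup Cfsg.Agent.H936 Cfsg.Agent.DS.Ord Cfsg.Agent.R2.M7

/-- from the double cover -/
theorem ps_of_cover {M : Type} [Group M] [Finite M] {Γ : Geo M} (X : XF Γ) {t : M} (ht : NP Γ t)
    {G : Type} [Group G] (q : centralizer ({t} : Set M) →* G) (hq : Function.Surjective q)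
    (hk : ∀ x, q x = 1 ↔ (x : M) = 1 ∨ (x : M) = t) {H : Subgroup G} (hsol : Group.IsSolvable H)
    (hmax : ∀ A : Subgroup G, IsPGroup 2 A → A ≠ ⊥ → H ≤ normalizer (A : Set G) → normalizer (A : Set G) = H)
    {T : Subgroup H} [T.Normal] (hT : IsPGroup 2 T) (h0 : T ≠ ⊥) (hC : centralizer (T : Set H) ≤ T) : PS 8 H := by
  haveI : Finite G := Finite.of_surjective q hq
  let C := centralizer ({t} : Set M)
  have htC : t ∈ C := mem_centralizer_singleton_iff.2 rfl
  have mem : ∀ (K : Subgroup G) (x : M), x ∈ (K.comap q).map C.subtype ↔ ∃ hx : x ∈ C, q ⟨x, hx⟩ ∈ K := by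
    intro K x
    constructor
    · rintro ⟨y, hy, rfl⟩
      exact ⟨y.2, hy⟩
    · rintro ⟨hx, h⟩
      exact ⟨⟨x, hx⟩, h, rfl⟩
  have hker : IsPGroup 2 q.ker := by
    intro x
    refine ⟨1, Subtype.ext (Subtype.ext ?_)⟩
    change ((x : C) : M) ^ 2 ^ 1 = 1
    rw [pow_one, pow_two]
    rcases (hk x).1 x.2 with h | h <;> rw [h]
    · exact mul_one 1
    · exact ht.1
  have hs : Function.Surjective (q.subgroupComap H) := q.subgroupComap_surjective_of_surjective H hq
  have e := equivMapOfInjective (H.comap q) C.subtype C.subtype_injective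
  refine PS.of_surj hs (PS.of_equiv e.symm (X.main ht (map_subtype_le _) ?_ ?_
    (T := ((T.map H.subtype).comap q).map C.subtype) (((hT.map _).comap_of_ker_isPGroup q hker).map _) ?_
    (map_mono (comap_mono (map_subtype_le _))) ?_ ?_))
  · haveI : Group.IsSolvable (q.subgroupComap H).ker := by
      have h1 : IsPGroup 2 (q.subgroupComap H).ker := by
        intro x
        obtain ⟨k, hk⟩ := hker ⟨(x : H.comap q), congrArg Subtype.val x.2⟩
        have h2 : ((x : H.comap q) : C) ^ 2 ^ k = 1 := congrArg Subtype.val hk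
        exact ⟨k, Subtype.ext (Subtype.ext h2)⟩
      haveI := h1.isNilpotent
      infer_instance
    haveI : Group.IsSolvable (H.comap q) := Group.isSolvable_of_ker_le_range (q.subgroupComap H).ker.subtype
      (q.subgroupComap H) (by rw [range_subtype])
    exact Group.isSolvable_of_surjective (f := e.toMonoidHom) e.surjective
  · rintro A hA hAC ⟨a, ha, ha1, hat⟩ hHA
    have key : ∀ g : C, (g : M) ∈ normalizer (A : Set M) →
        q g ∈ normalizer (((A.subgroupOf C).map q : Subgroup G) : Set G) := by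
      intro g hg
      refine mem_normalizer_fintype ?_
      rintro _ ⟨x, hx, rfl⟩
      exact ⟨g * x * g⁻¹, (mem_normalizer_iff.1 hg x).1 hx, by rw [map_mul, map_mul, map_inv]⟩
    have h1 := hmax ((A.subgroupOf C).map q) ((hA.comap_subtype).map q) (fun h => by
      have h2 : q ⟨a, hAC ha⟩ ∈ (A.subgroupOf C).map q := ⟨_, ha, rfl⟩
      rw [h, mem_bot, hk] at h2
      exact h2.elim ha1 hat) (by
      intro h hh
      obtain ⟨g, rfl⟩ := hq h
      exact key g (hHA ⟨g, hh, rfl⟩))
    refine le_antisymm (fun g hg => (mem H g).2 ⟨hg.2, ?_⟩) (le_inf hHA (map_subtype_le _))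
    rw [← h1]
    exact key ⟨g, hg.2⟩ hg.1
  · refine (mem _ t).2 ⟨htC, ?_⟩
    rw [(hk _).2 (Or.inr rfl)]
    exact one_mem _
  · rintro _ ⟨g, hg, rfl⟩
    refine mem_normalizer_fintype ?_
    rintro _ ⟨x, hx, rfl⟩
    refine ⟨g * x * g⁻¹, ?_, rfl⟩
    change q (g * x * g⁻¹) ∈ T.map H.subtype
    rw [map_mul, map_mul, map_inv]
    exact (mem_normalizer_iff.1 (le_normalizer_map T hg) _).1 hx
  · intro g hg
    have h1 : g ∈ C := by
      refine mem_centralizer_singleton_iff.2 (mem_centralizer_iff.1 hg t ((mem _ t).2 ⟨htC, ?_⟩)).symm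
      rw [(hk _).2 (Or.inr rfl)]
      exact one_mem _
    have h2 : ∀ x ∈ T.map H.subtype, x * q ⟨g, h1⟩ = q ⟨g, h1⟩ * x := by
      intro x hx
      obtain ⟨y, rfl⟩ := hq x
      rw [← map_mul, ← map_mul]
      exact congrArg q (Subtype.ext (mem_centralizer_iff.1 hg y ⟨y, hx, rfl⟩))
    have h3 : q ⟨g, h1⟩ ∈ H := by
      rw [← hmax (T.map H.subtype) (hT.map _)
        (by rwa [Ne, Subgroup.map_eq_bot_iff_of_injective _ H.subtype_injective]) (le_normalizer_map T)]
      exact centralizer_le_normalizer _ (mem_centralizer_iff.2 h2)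
    refine (mem _ g).2 ⟨h1, ⟨_, h3⟩, hC (mem_centralizer_iff.2 fun x hx => Subtype.ext ?_), rfl⟩
    exact h2 x ⟨x, hx, rfl⟩

/-- **The box of the Baby Monster.** -/
theorem boxB : BoxB := by
  intro big G _ _ S H E r hL h
  have hs := hL.toSetup
  have hd := card_dvd_of_setup hs
  have ho : Nat.card (Cfsg.Out S) = 1 := Nat.dvd_one.1 (card_out_of h S2084.result)
  rw [ho, mul_one] at hd
  have htop : S = ⊤ := eq_top_of_le_card S (Nat.le_of_dvd Nat.card_pos hd)
  have e' : G ≃* S := topEquiv.symm.trans (MulEquiv.subgroupCongr htop.symm)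
  have hG : Spor.IsoB G := by
    obtain ⟨e⟩ := h
    exact ⟨e'.trans e⟩
  haveI : IsSimpleGroup G := by
    have := hs.simple
    exact e'.isSimpleGroup
  have F := oddF big hG
  by_cases hsol : Group.IsSolvable H
  swap
  · exact F.ps_of_not_solvable hsol
  have hmax : ∀ (p : ℕ) (A : Subgroup G), p.Prime → IsPGroup p A → A ≠ ⊥ → H ≤ normalizer (A : Set G) →
      normalizer (A : Set G) = H := by
    intro p A hp hA h0 hH
    refine Gen.normalizer_eq_of_setup hs (htop ▸ le_top) h0 ?_ hH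
    rintro rfl
    haveI : Fact p.Prime := ⟨hp⟩
    haveI := hA.isNilpotent
    haveI := hs.simple
    exact hs.noncomm ⟨⟨IsSimpleGroup.comm_iff_isSolvable.2 inferInstance⟩⟩
  rcases F.ps_or_char_two (H := H) (fun x _ hx h1 => by
    rw [← hmax 3 (zpowers x) Nat.prime_three (IsPGroup.of_card (n := 1) (by rw [Nat.card_zpowers, hx, pow_one]))
      (fun h2 => by
        rw [zpowers_eq_bot] at h2
        rw [h2, orderOf_one] at hx
        norm_num at hx) h1]
    intro g hg
    refine mem_normalizer_fintype ?_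
    rintro _ ⟨k, rfl⟩
    refine ⟨k, ?_⟩
    exact (mul_inv_eq_iff_eq_mul.2 (Commute.zpow_right (mem_centralizer_singleton_iff.1 hg) k).eq).symm) with
    h1 | ⟨T, hTn, hT, hC⟩
  · exact h1
  by_cases h0 : T = ⊥
  · refine PS.of_bot (eq_bot_iff.2 fun x _ => ?_)
    rw [← h0]
    refine hC (mem_centralizer_iff.2 fun y hy => ?_)
    rw [h0, SetLike.mem_coe, mem_bot] at hy
    rw [hy, one_mul, mul_one]
  obtain ⟨t, ht, h2, ⟨e⟩⟩ := H979.OddB.exists_cover hG
  obtain ⟨Γ, X, hΓ⟩ := exists_xf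
  haveI := Cfsg.Agent.R2.H4.Mon.MonFr.finite_model
  have ht' := hΓ t ht
  refine (ps_of_cover X ht' (e.toMonoidHom.comp (QuotientGroup.mk' _))
    (e.surjective.comp (QuotientGroup.mk'_surjective _)) (fun x => ?_) hsol (hmax 2 · Nat.prime_two) hT h0 hC).mono
    (by norm_num)
  have h3 : zpowers (⟨t, mem_centralizer_singleton_iff.2 rfl⟩ : centralizer {t}) = center _ := by
    refine eq_of_le_of_card_ge (zpowers_le.2 (mem_center_iff.2 fun g =>
      Subtype.ext (mem_centralizer_singleton_iff.1 g.2))) ?_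
    rw [h2, Nat.card_zpowers, ← Subgroup.orderOf_coe, orderOf_eq_prime (p := 2) (by rw [pow_two]; exact ht'.1) ht'.2.1]
  rw [MonoidHom.comp_apply, MulEquiv.coe_toMonoidHom, map_eq_one_iff e e.injective, QuotientGroup.mk'_apply,
    QuotientGroup.eq_one_iff, ← h3]
  constructor
  · rintro ⟨k, rfl⟩
    have h4 : t ^ (2 : ℤ) = 1 := by rw [zpow_two]; exact ht'.1
    change t ^ k = 1 ∨ t ^ k = t
    rcases Int.emod_two_eq_zero_or_one k with h5 | h5
    · left
      rw [zpow_eq_zpow_emod k h4, h5, zpow_zero]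
    · right
      rw [zpow_eq_zpow_emod k h4, h5, zpow_one]
  · rintro (h4 | h4)
    · rw [show x = 1 from Subtype.ext h4]
      exact one_mem _
    · rw [show x = ⟨t, mem_centralizer_singleton_iff.2 rfl⟩ from Subtype.ext h4]
      exact mem_zpowers _

end Cfsg.Agent.DS.B
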