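import Cfsg.Agent.DS.B.Geo
import Cfsg.Agent.DS.Gen.Perm
import Cfsg.Agent.DS.Cl.NS
import Cfsg.Agent.R2.H10.Mon.Final
import Cfsg.Agent.H848.NormFour
import Cfsg.Agent.H848.TenI
import Cfsg.Agent.H819.TypeTwoC
import Cfsg.Agent.H49.CoStab

/-!
# S5881, S5882, the box `BoxB`: the 2-local geometry of a frame (helper22)

* `sep`, `arkc` : linear algebra in `Q`;
* `sd_four` : `SD 8` of the normalizer of a singular four group;
* `ps_stab` : `PS 6` of the stabilizer of a non-singular element in the normalizer of an ark;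
* `not_solvable_one` : `C(z) ∩ C(t)`, `t ∈ Q_z` not a point;
* `xf_of` : the facts `XF`.
-/

set_option autoImplicit false
set_option linter.style.haveILetI false

namespace Cfsg.Agent.DS.B

open Cfsg Subgroup Cfsg.Agent.H936 Cfsg.Agent.H511.Wt Cfsg.Agent.R2.M7
open Cfsg.Agent.R2.M7.Geo (cj CC)
open Cfsg.Agent.MonsterU.Lam2 (L2 IsType bf)
open Cfsg.Agent.MonsterU.Ch
open Cfsg.Agent.MonsterU.CoFrameL2
open Cfsg.Agent.MonsterU.AmalGen (pre EE)
open Cfsg.Agent.MonsterU.AmalInf (AA CA mem_CA mem_EE_iff exists_CA_of_E)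
open Cfsg.Agent.MonsterU.AmalSide (four cent2 mem_cent2)
open Cfsg.Agent.CoOneType.SignFacts
open Cfsg.Agent.R2.H4.Mon.Frm
open Cfsg.Agent.R2.H4.Mon.GeoInst
open Cfsg.Agent.H848.TenB (T mem_T)
open Cfsg.Agent.H848.Oct (W16 W8 perp_W8)
open Cfsg.Agent.H848.Dual (perp mem_perp perp_perp)
open Cfsg.Spor (Co1)
open scoped commutatorElement

section general

theorem sd_prod {k : ℕ} {X Z : Type*} [Group X] [Group Z] (h1 : SD k X) (h2 : SD k Z) : SD k (X × Z) := by
  intro Y hY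
  rw [eq_bot_iff]
  intro y hy
  rw [mem_bot]
  let f : Y →* X := (MonoidHom.fst X Z).comp Y.subtype
  let g : Y →* Z := (MonoidHom.snd X Z).comp Y.subtype
  have h3 : f.rangeRestrict y ∈ derivedSeries f.range k := map_derivedSeries_le_derivedSeries _ k ⟨y, hy, rfl⟩
  have h4 : g.rangeRestrict y ∈ derivedSeries g.range k := map_derivedSeries_le_derivedSeries _ k ⟨y, hy, rfl⟩
  rw [h1 _ (Group.isSolvable_of_surjective f.rangeRestrict_surjective), mem_bot] at h3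
  rw [h2 _ (Group.isSolvable_of_surjective g.rangeRestrict_surjective), mem_bot] at h4
  exact Subtype.ext (Prod.ext (congrArg Subtype.val h3) (congrArg Subtype.val h4))

/-- extensions -/
theorem sd_of_ker {a b : ℕ} {X Z : Type*} [Group X] [Group Z] (f : X →* Z) (h1 : dser f.ker a = ⊥) (h2 : SD b Z) :
    SD (b + a) X := by
  intro Y hY
  rw [← dser_eq_bot_iff, eq_bot_iff]
  refine dser_add_le ?_ h1.le
  rw [← Subgroup.map_eq_bot_iff, map_dser, dser_eq_bot_iff]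
  exact h2 _ (Group.isSolvable_of_surjective (f.subgroupMap_surjective Y))

theorem ps_conj {G : Type} [Group G] {k : ℕ} {O : Subgroup G} {t : G} (g : G)
    (h : PS k (normalizer (O : Set G) ⊓ centralizer ({t} : Set G) : Subgroup G)) :
    PS k (normalizer ((cj g O : Subgroup G) : Set G) ⊓ centralizer ({g * t * g⁻¹} : Set G) : Subgroup G) := by
  have h1 : (normalizer (O : Set G) ⊓ centralizer ({t} : Set G)).map (MulAut.conj g).toMonoidHom =
      normalizer ((cj g O : Subgroup G) : Set G) ⊓ centralizer ({g * t * g⁻¹} : Set G) := by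
    rw [Subgroup.map_inf_eq _ _ _ (MulAut.conj g).injective, Subgroup.map_equiv_normalizer_eq]
    congr 1
    ext x
    rw [B.mem_cj, mem_centralizer_singleton_iff, mem_centralizer_singleton_iff]
    constructor
    · intro h1
      calc x * (g * t * g⁻¹) = g * (g⁻¹ * x * g * t) * g⁻¹ := by group
        _ = _ := by rw [h1]; group
    · intro h1
      calc g⁻¹ * x * g * t = g⁻¹ * (x * (g * t * g⁻¹)) * g := by group
        _ = _ := by rw [h1]; group
  rw [← h1]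
  exact h.of_equiv (equivMapOfInjective _ _ (MulAut.conj g).injective)

theorem not_solvable_Co2 : ¬ Group.IsSolvable Spor.Co2 := by
  intro h
  haveI := Cfsg.Agent.H49.CoStab.simple_co2
  have h1 := IsSimpleGroup.comm_iff_isSolvable.2 h
  letI : CommGroup Spor.Co2 := { (inferInstance : Group Spor.Co2) with mul_comm := h1 }
  haveI : Finite Spor.Co2 := Nat.finite_of_card_ne_zero (by rw [Cfsg.Agent.H49.CoStab.card_co2]; norm_num)
  have h2 := IsSimpleGroup.prime_card (α := Spor.Co2)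
  rw [Cfsg.Agent.H49.CoStab.card_co2] at h2
  exact absurd (h2.eq_one_or_self_of_dvd 2 (by norm_num)) (by norm_num)

end general

section chart

variable {G : Type} [Group G] {Q : Subgroup G} {z : G} {eta : G → L2}
  {pi : Subgroup.centralizer ({z} : Set G) →* Co1} {y τ : G}

/-- separation in `Q` -/
theorem sep (h : Chart Q z eta pi) {K : Subgroup G} (hK : K ≤ Q) (hz : z ∈ K) {u : G} (hu : u ∈ Q) (huK : u ∉ K) :
    ∃ q ∈ Q, (∀ k ∈ K, q * k = k * q) ∧ q * u ≠ u * q := by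
  let W : AddSubgroup L2 :=
    { carrier := {x | ∃ k ∈ K, eta k = x}
      zero_mem' := ⟨1, K.one_mem, h.eta_one⟩
      add_mem' := by
        rintro _ _ ⟨a, ha, rfl⟩ ⟨b, hb, rfl⟩
        exact ⟨a * b, K.mul_mem ha hb, h.eta_mul a (hK ha) b (hK hb)⟩
      neg_mem' := by
        rintro _ ⟨a, ha, rfl⟩
        exact ⟨a, ha, (Cfsg.Agent.MonsterU.Lam2.neg_eq _).symm⟩ }
  have h1 : eta u ∉ perp (perp W) := by
    rw [perp_perp]
    rintro ⟨k, hk, h1⟩
    rcases (h.eta_eq hu (hK hk)).1 h1.symm with h2 | h2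
    · exact huK (h2 ▸ hk)
    · exact huK (h2 ▸ K.mul_mem hk hz)
  rw [mem_perp] at h1
  push Not at h1
  obtain ⟨w, hw, hw'⟩ := h1
  obtain ⟨q, hq, rfl⟩ := h.eta_surj w
  refine ⟨q, hq, fun k hk => (h.comm_iff hq (hK hk)).2 (hw _ ⟨k, hk, rfl⟩), fun h2 => hw' ?_⟩
  exact (h.comm_iff hu hq).1 h2.symm

/-- the elements of `Q` centralizing `T ∩ Q` -/
theorem arkc_std (h : Chart Q z eta pi) (o : golayCode) {q : G} (hq : q ∈ Q)
    (hc : ∀ a ∈ T h o, a ∈ Q → q * a = a * q) : ∀ a ∈ T h o, q * a = a * q := by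
  have h1 : eta q ∈ W16 o := by
    rw [← perp_W8, mem_perp]
    intro x hx
    obtain ⟨a, ha, rfl⟩ := h.eta_surj x
    exact (h.comm_iff hq ha).1 (hc a (H848.TenB.pre_W8_le h ⟨ha, hx⟩) ha)
  intro a ha
  exact (mem_T h).1 ha q ⟨hq, h1⟩

open Cfsg.Agent.H848.NormFour in
/-- the kernel has derived length two -/
theorem dser_OO (F : Fr Q z eta pi y τ) : dser (OO F.ch F.hyQ F.hy) 2 = ⊥ := by
  have h := F.ch
  have dec : ∀ o ∈ OO F.ch F.hyQ F.hy, ∃ r ∈ Q, ∃ a ∈ AA Q τ, r * y = y * r ∧ a * z = z * a ∧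
      ((o : NN z y) : G) = r * a := by
    intro o ho
    obtain ⟨hb, hE⟩ := (mem_OO h F.hyQ F.hy).1 ho
    obtain ⟨a, ha, hc, hac⟩ := exists_CA_of_E h F.hyQ F.hy F.τz F.τy hE
    have h1 : (o : G) * a⁻¹ ∈ Q := by
      have h2 : pi (toC h F.hyQ F.hy ⟨o, hb⟩ * ⟨a, hc⟩⁻¹) = 1 := by rw [map_mul, map_inv, hac, mul_inv_cancel]
      exact (h.pi_eq_one _).1 h2
    have h2 := Cfsg.Agent.MonsterU.AmalInf.comm_AA h F.hyQ F.hy F.τz F.τy (Subgroup.inv_mem _ ha.1)
    refine ⟨_, h1, a, ha.1, ?_, mem_centralizer_singleton_iff.1 hc, by group⟩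
    have h3 : (o : G) * y = y * o := (mem_cent2.1 hb).2
    rw [mul_assoc, h2, ← mul_assoc, h3, mul_assoc]
  have h1 : dser (OO F.ch F.hyQ F.hy) 1 ≤ (EE h).subgroupOf (NN z y) := by
    rw [dser_succ, dser_zero, commutator_le]
    intro o ho o' ho'
    obtain ⟨r, hr, a, ha, hry, haz, e⟩ := dec o ho
    obtain ⟨r', hr', a', ha', hry', haz', e'⟩ := dec o' ho'
    rw [mem_subgroupOf, mem_EE_iff h F.hyQ F.hy F.τz F.τy]
    have e1 : ((⁅o, o'⁆ : NN z y) : G) = r * a * (r' * a') * (r * a)⁻¹ * (r' * a')⁻¹ := by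
      rw [← e, ← e']
      rfl
    rw [e1]
    have cQ : ∀ {c q : G}, c * z = z * c → q ∈ Q → c * q * c⁻¹ ∈ Q := fun hc hq => h.large.conj_mem _ hc _ hq
    have cA : ∀ {c q : G}, c * y = y * c → q ∈ AA Q τ → c * q * c⁻¹ ∈ AA Q τ := fun hc hq =>
      Cfsg.Agent.MonsterU.AmalInf.conj_AA h F.hyQ F.hy F.τz F.τy hc hq
    have mz : ∀ {c d w : G}, c * w = w * c → d * w = w * d → c * d * w = w * (c * d) := fun hc hd => by
      rw [mul_assoc, hd, ← mul_assoc, hc, mul_assoc]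
    have iz : ∀ {c w : G}, c * w = w * c → c⁻¹ * w = w * c⁻¹ := fun hc => (Commute.inv_left hc).eq
    constructor
    · have e2 : r * a * (r' * a') * (r * a)⁻¹ * (r' * a')⁻¹ = r * (a * r' * a⁻¹) *
          (a * a' * a⁻¹ * r⁻¹ * (a * a' * a⁻¹)⁻¹) * (a * a' * a⁻¹ * a'⁻¹) * r'⁻¹ := by group
      rw [e2]
      refine Q.mul_mem (Q.mul_mem (Q.mul_mem (Q.mul_mem hr (cQ haz hr')) (cQ (mz (mz haz haz') (iz haz))
        (Q.inv_mem hr))) ?_) (Q.inv_mem hr')
      rcases Cfsg.Agent.MonsterU.AmalInf.comm_AA' h F.hyQ F.hy F.τz F.τy ha ha' with h2 | h2 <;> rw [h2]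
      · exact Q.one_mem
      · exact F.hyQ
    · have e2 : r * a * (r' * a') * (r * a)⁻¹ * (r' * a')⁻¹ = (r * a * r⁻¹) * (r * r' * (a' * a⁻¹) * (r * r')⁻¹) *
          (r * r' * r⁻¹ * a'⁻¹ * (r * r' * r⁻¹)⁻¹) * (r * r' * r⁻¹ * r'⁻¹) := by group
      rw [e2]
      refine (AA Q τ).mul_mem ((AA Q τ).mul_mem ((AA Q τ).mul_mem (cA hry ha) (cA (mz hry hry')
        ((AA Q τ).mul_mem ha' ((AA Q τ).inv_mem ha)))) (cA (mz (mz hry hry') (iz hry)) ((AA Q τ).inv_mem ha'))) ?_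
      rcases h.large.comm r hr r' hr' with h2 | h2
      · have e3 : r * r' * r⁻¹ * r'⁻¹ = 1 := by rw [h2]; group
        rw [e3]
        exact (AA Q τ).one_mem
      · have e3 : r * r' * r⁻¹ * r'⁻¹ = z := by
          rw [h2, mz (h.large.comm_z r' hr') (h.large.comm_z r hr)]
          group
        rw [e3]
        exact Cfsg.Agent.MonsterU.AmalInf.z_mem_AA h F.hyQ F.hy F.τz F.τy
  rw [eq_bot_iff]
  refine dser_add_le (a := 1) (b := 1) h1 (dser_one_of_comm fun a ha b hb => Subtype.ext ?_).le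
  exact (h.comm_iff ha.1 hb.1).2 (Cfsg.Agent.MonsterU.AmalGen.bf_W12 ha.2 hb.2)

open Cfsg.Agent.H848.NormFour Cfsg.Agent.H848.ProdQuot in
/-- **The normalizer of the four group.** -/
theorem sd_four (F : Fr Q z eta pi y τ) : SD 8 (normalizer (four z y : Set G)) := by
  have h := F.ch
  have hyQ := F.hyQ
  have hy := F.hy
  obtain ⟨β, hβ⟩ := exists_beta h hyQ hy
  have hk := ker_beta h hyQ hy β hβ
  have hB := BB_normal h hyQ hy
  have hw := exists_word h hyQ hy F.τz F.τy hB β hβ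
  have hβs : Function.Surjective β := fun σ => ⟨(hw σ).choose, (hw σ).choose_spec.1⟩
  have hact : ∀ n : NN z y, ∃ b : M24, Acts (BB z y) hB (rho h hyQ hy) n b := by
    intro n
    obtain ⟨w, h1, h2⟩ := hw (β n)
    have h3 : n * w⁻¹ ∈ BB z y := by
      rw [← hk, MonoidHom.mem_ker, map_mul, map_inv, h1, mul_inv_cancel]
    have h4 := (acts_self (hB := hB) (ρ := rho h hyQ hy) ⟨n * w⁻¹, h3⟩).mul h2
    have h5 : ((⟨n * w⁻¹, h3⟩ : BB z y) : NN z y) * w = n := by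
      show n * w⁻¹ * w = n
      group
    rw [h5] at h4
    exact ⟨_, h4⟩
  obtain ⟨f, -, hker, -, -⟩ := exists_hom (hB := hB) (rho_surj h hyQ hy) M24_center β hβs hk hact
  have hker' : f.ker = OO h hyQ hy := hker
  refine sd_of_ker (a := 2) (b := 6) f (by rw [hker']; exact dser_OO F) (sd_prod ?_ ?_)
  · refine Gen.SD.of_inj M24.subtype M24.subtype_injective (Gen.sd_perm_24 ?_)
    rw [Nat.card_eq_fintype_card]
    decide
  · refine Gen.sd_perm_24 ?_
    rw [Nat.card_eq_fintype_card]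
    decide

open Cfsg.Agent.H848 Cfsg.Agent.H848.TenC Cfsg.Agent.H848.TenF Cfsg.Agent.LieClassical.OrthCore in
/-- **The stabilizer of a non-singular element of the ark.** -/
theorem ps_stab [Finite G] {o : golayCode} (ho : wt o = 8) (F : Fr Q z eta pi y τ) (hE : TE F.ch τ) {t : G}
    (ht : t ∈ T F.ch o) (h1 : t ≠ 1) (hz : ¬ TwoB z t) :
    PS 6 (normalizer (T F.ch o : Set G) ⊓ centralizer ({t} : Set G) : Subgroup G) := by
  have h := F.ch
  have Fo := facts ho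
  obtain ⟨s, hs, hsQ, ⟨g, hg, hgz⟩, hsk, ι, c⟩ := TenE.exists_crd h Fo F.hyQ F.hy F.τz F.τy hE
  obtain ⟨β, hβ⟩ := exists_beta c
  obtain ⟨hrange, hcard⟩ := TenH.range_eq h Fo F.hyQ F.hy F.τz F.τy hE c hβ hs hsQ hg hgz hsk
  have hker := ker_beta c hβ
  obtain ⟨w, rfl⟩ := (c.mem t).1 ht
  have hw : QF w ≠ 0 := by
    rw [QF_apply, ← c.kap, Ne, TenD.kap_eq_zero]
    exact fun h2 => h2.elim h1 hz
  set S : Subgroup G := normalizer (T F.ch o : Set G) ⊓ centralizer ({ι w} : Set G) with hS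
  let f : S →* (TenE.V5 ≃ₗ[ZMod 2] TenE.V5) := β.comp (inclusion inf_le_left)
  have hP := Cl.Fwd.ps_stab (K := ZMod 2) rfl QF (Cfsg.Agent.LieClassical.OrthForms.nondeg_plusForm 5 (ZMod 2)) hw
  have hle : f.range ≤ O QF ⊓ MulAction.stabilizer (TenE.V5 ≃ₗ[ZMod 2] TenE.V5) w := by
    rintro _ ⟨x, rfl⟩
    refine ⟨range_le c hβ ⟨_, rfl⟩, c.inj ?_⟩
    refine (hβ _ w).trans ?_
    exact mul_inv_eq_iff_eq_mul.2 (mem_centralizer_singleton_iff.1 x.2.2)
  have h2 : PS 4 f.range := by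
    refine (hP.of_le (P' := f.range.subgroupOf _) ?_).of_equiv (subgroupOfEquivOfLe hle)
    refine (derivedSeries_antitone _ (show 1 ≤ 4 by norm_num)).trans fun x hx => ?_
    have h3 : (x : TenE.V5 ≃ₗ[ZMod 2] TenE.V5) ∈ β.range := by
      rw [hrange, ← good.commutator_eq_E]
      have h4 : (x : TenE.V5 ≃ₗ[ZMod 2] TenE.V5) ∈
          dser (O QF ⊓ MulAction.stabilizer (TenE.V5 ≃ₗ[ZMod 2] TenE.V5) w) 1 := by
        rw [dser_eq_map]
        exact ⟨x, hx, rfl⟩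
      exact dser_mono inf_le_left 1 h4
    obtain ⟨n, hn⟩ := h3
    refine ⟨⟨n, n.2, mem_centralizer_singleton_iff.2 (mul_inv_eq_iff_eq_mul.1 ?_)⟩, hn⟩
    rw [← hβ, hn]
    exact congrArg ι x.2.2
  refine PS.of_ker (a := 2) (b := 4) f.rangeRestrict_surjective (PS.of_bot ?_) h2
  rw [← dser_eq_bot_iff, eq_bot_iff]
  have hC : ∀ x ∈ f.rangeRestrict.ker, (x : G) ∈ TenG.C h o := by
    intro x hx
    rw [MonoidHom.ker_rangeRestrict] at hx
    have h3 : inclusion inf_le_left x ∈ β.ker := hx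
    rw [hker] at h3
    exact h3
  refine dser_add_le (a := 1) (b := 1) (M := (T h o).subgroupOf S) ?_ (dser_one_of_comm fun a ha b hb =>
    Subtype.ext (TenB.ab_T h Fo F.hyQ F.hy F.τz F.τy hE ha hb)).le
  rw [dser_succ, dser_zero, commutator_le]
  intro a ha b hb
  exact TenI.comm_C h Fo F.hyQ F.hy F.τz F.τy hE hs hg hgz hsk hcard (hC a ha) (hC b hb)

/-- **`C(z) ∩ C(t)` is not solvable.** -/
theorem not_solvable_one [Finite G] (F : Fr Q z eta pi y τ) {t : G} (ht : t ∈ Q) (h1 : t * t = 1) (h2 : t ≠ 1)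
    (h3 : ¬ TwoB z t) : ¬ Group.IsSolvable (centralizer ({z} : Set G) ⊓ centralizer ({t} : Set G) : Subgroup G) := by
  intro hs
  have h4 : IsType 2 (eta t) := (H819.Base.type_two_iff F.ch ⟨τ, F.τz ▸ F.hyQ, F.τz ▸ F.y_ne⟩ ht).2
    ⟨orderOf_eq_prime (by rw [pow_two, h1]) h2, fun h => h3 (isConj_iff.1 h)⟩
  obtain ⟨g, hg⟩ := IsType.trans (Or.inl rfl) h4 Cfsg.Agent.H819.TypeTwo.type_leechU
  obtain ⟨β, -, hβ, -⟩ := H819.TypeTwo.exists_be (F.ch.smul (QuotientGroup.mk g)) ht hg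
  exact not_solvable_Co2 (Group.isSolvable_of_surjective hβ)

/-- **The facts.** -/
theorem xf_of [Finite G] {o : golayCode} (ho : wt o = 8) (F : Fr Q z eta pi y τ) (hE : TE F.ch τ)
    (hA : ∀ a b, NP (geo F.ch o) a → NP (geo F.ch o) b → ∃ g : G, g * a * g⁻¹ = b)
    (hc : ∀ t, NP (geo F.ch o) t → ∀ u, TwoB z u → ∀ v, TwoB z v → u * t = t * u → v * t = t * v →
      (TwoB z (t * u) ↔ TwoB z (t * v)) → ∃ g : G, g * t = t * g ∧ g * u * g⁻¹ = v)
    (hodd : ¬ 2 ∣ (centralizer ({z} : Set G)).index) : XF (geo F.ch o) where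
  facts := R2.H10.Mon.Final.facts_all ho F hE
  mainC := R2.H10.Mon.Final.mainC ho F hE
  conjA := hA
  cls := hc
  ark := ⟨T F.ch o, ⟨1, (cj_one _).symm⟩, z, z_mem_T (facts ho) F hE, TwoB.self z⟩
  sep := by
    intro c hc K hK hcK u hu huK
    obtain ⟨x, h1, h2, h3⟩ := Fr.point F hc
    obtain ⟨eta', pi', τ', F'⟩ := F.at_pair hc h1 h2 h3
    exact sep F'.ch hK hcK hu huK
  arkc := by
    intro O hO c hcO hc q hq h1 a ha
    obtain ⟨k, rfl, rfl⟩ := std1 (facts ho) F hE hO hcO hc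
    rw [geo_QQ, QQ_eq F.ch.large rfl] at hq h1
    have h2 := arkc_std F.ch o (q := k⁻¹ * q * k) (Cfsg.Agent.MonsterU.AmalInf.mem_AA.1 hq) (fun b hb hbQ => by
      have h3 := h1 (k * b * k⁻¹) ⟨b, hb, rfl⟩ ⟨b, hbQ, rfl⟩
      calc k⁻¹ * q * k * b = k⁻¹ * (q * (k * b * k⁻¹)) * k := by group
        _ = _ := by rw [h3]; group) _ (B.mem_cj.1 ha)
    calc q * a = k * (k⁻¹ * q * k * (k⁻¹ * a * k)) * k⁻¹ := by group
      _ = _ := by rw [h2]; group
  four := by
    intro E hE' hcard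
    haveI : Finite E := inferInstance
    obtain ⟨u, v, hu, hv, huv⟩ : ∃ u v : E, u ≠ 1 ∧ v ≠ 1 ∧ v ≠ u := by
      by_contra hne
      push Not at hne
      haveI : Nontrivial E := Finite.one_lt_card_iff_nontrivial.1 (by omega)
      obtain ⟨u, hu⟩ := exists_ne (1 : E)
      have h1 : (Set.univ : Set E) ⊆ {1, u} := fun x _ => by
        by_cases h2 : x = 1
        · exact Or.inl h2
        · exact Or.inr (hne u x hu h2)
      have h2 := (Set.ncard_le_ncard h1).trans (Set.ncard_insert_le _ _)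
      rw [Set.ncard_univ, Set.ncard_singleton] at h2
      omega
    have hu1 : (u : G) ≠ 1 := fun h => hu (Subtype.ext h)
    have hv1 : (v : G) ≠ 1 := fun h => hv (Subtype.ext h)
    obtain ⟨eta', pi', τ', F'⟩ := F.at_pair (hE'.1 u u.2 hu1) (hE'.1 v v.2 hv1) (hE'.2 u u.2 hu1 v v.2)
      fun h => huv (Subtype.ext h)
    have h1 : four (u : G) v = E := by
      refine eq_of_le_of_card_ge ((closure_le _).2 ?_) ?_
      · rintro _ (rfl | rfl)
        · exact u.2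
        · exact v.2
      · rw [hcard, (H848.NormFour.klein F'.ch F'.hyQ F'.hy).card_four]
    rw [← h1]
    exact sd_four F'
  stab := by
    rintro _ ⟨g, rfl⟩ _ ⟨t, ht, rfl⟩ h1
    refine ps_conj g (ps_stab ho F hE ht ?_ fun h2 => h1.2.2 (h2.conj g))
    rintro rfl
    exact h1.2.1 (map_one _)
  one := by
    intro c hc t ht h1
    obtain ⟨x, h2, h3, h4⟩ := Fr.point F hc
    obtain ⟨eta', pi', τ', F'⟩ := F.at_pair hc h2 h3 h4
    exact not_solvable_one F' ht h1.1 h1.2.1 fun h5 => h1.2.2 (TwoB.trans hc h5)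
  syl := by
    intro K hK
    obtain ⟨P⟩ : Nonempty (Sylow 2 (centralizer ({z} : Set G))) := inferInstance
    have h1 : ¬ 2 ∣ ((P : Subgroup _).map (centralizer ({z} : Set G)).subtype).index := by
      rw [index_map_subtype]
      intro h2
      exact ((Nat.Prime.dvd_mul Nat.prime_two).1 h2).elim P.not_dvd_index hodd
    obtain ⟨S, hS⟩ := hK.exists_le_sylow
    obtain ⟨g, hg⟩ := MulAction.exists_smul_eq G ((P.isPGroup'.map _).toSylow h1) S
    refine ⟨g * z * g⁻¹, ⟨g, rfl⟩, fun x hx => ?_⟩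
    have h2 := hS hx
    rw [← hg, Sylow.coe_subgroup_smul, Subgroup.mem_pointwise_smul_iff_inv_smul_mem] at h2
    have h3 := mem_centralizer_singleton_iff.1 (map_subtype_le _ h2)
    rw [MulAut.smul_def, MulAut.conj_inv_apply] at h3
    calc x * (g * z * g⁻¹) = g * (g⁻¹ * x * g * z) * g⁻¹ := by group
      _ = _ := by rw [h3]; group

end chart

end Cfsg.Agent.DS.B
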