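import Cfsg.Agent.DS.B.Mon

/-!
# S5881, S5882: the normalizer of a singular subgroup of order at least four (helper22)
-/

set_option autoImplicit false
set_option linter.style.haveILetI false

namespace Cfsg.Agent.DS.B

open Cfsg Subgroup Cfsg.Agent.H936 Cfsg.Agent.H511.Wt Cfsg.Agent.R2.M7 Cfsg.Agent.H848.GLAct
open Cfsg.Agent.MonsterU.Lam2 (L2)
open Cfsg.Agent.MonsterU.Ch
open Cfsg.Agent.MonsterU.AmalSide (four)
open Cfsg.Agent.R2.H4.Mon.Frm
open Cfsg.Agent.R2.H4.Mon.GeoInst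
open Cfsg.Spor (Co1)

/-- a subgroup inducing the elementary transvections induces `SL(n, 2)` -/
theorem map_eq_top_of_tv {G : Type*} [Group G] {E : Subgroup G} {n : ℕ} {ι : V n → G} (c : Coord E n ι)
    (β : normalizer (E : Set G) →* Matrix.SpecialLinearGroup (Fin n) (ZMod 2))
    (hβ : ∀ (g : normalizer (E : Set G)) (x : V n), ι (act (β g) x) = (g : G) * ι x * (g : G)⁻¹)
    {Y : Subgroup (normalizer (E : Set G))} (h : ∀ i j, i ≠ j → ∃ g ∈ Y, Tv ι i j (g : G)) : Y.map β = ⊤ := by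
  have key : ∀ M : Matrix (Fin n) (Fin n) (ZMod 2), M.det ≠ 0 → ∃ g ∈ Y, (β g).1 = M := by
    intro M hM
    refine Matrix.diagonal_transvection_induction_of_det_ne_zero (fun M => ∃ g ∈ Y, (β g).1 = M) M hM ?_ ?_ ?_
    · intro D hD
      have hD1 : D = 1 := by
        rw [Matrix.det_diagonal] at hD
        funext i
        have h1 : D i ≠ 0 := fun h => hD (Finset.prod_eq_zero (Finset.mem_univ i) h)
        have key : ∀ a : ZMod 2, a ≠ 0 → a = 1 := by decide
        exact key _ h1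
      refine ⟨1, Y.one_mem, ?_⟩
      rw [hD1, map_one]
      exact (Matrix.diagonal_one).symm
    · intro t
      have h1 : ∃ g ∈ Y, ∀ x, (g : G) * ι x * (g : G)⁻¹ = ι (x + (t.c * x t.j) • Pi.single t.i 1) := by
        have key : ∀ a : ZMod 2, a = 0 ∨ a = 1 := by decide
        rcases key t.c with h2 | h2
        · refine ⟨1, Y.one_mem, fun x => ?_⟩
          rw [h2, zero_mul, zero_smul, add_zero, coe_one, one_mul, inv_one, mul_one]
        · obtain ⟨g, hg, h3⟩ := h t.i t.j t.hij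
          exact ⟨g, hg, fun x => by rw [h2, one_mul]; exact h3 x⟩
      obtain ⟨g, hg, h2⟩ := h1
      refine ⟨g, hg, ?_⟩
      apply Matrix.mulVec_injective
      funext x
      show act (β g) x = t.toMatrix.mulVec x
      rw [c.inj ((hβ g x).trans (h2 x))]
      unfold Matrix.TransvectionStruct.toMatrix
      rw [Matrix.transvection, Matrix.add_mulVec, Matrix.one_mulVec]
      congr 1
      funext i
      rw [Matrix.single_mulVec]
      simp only [smul_eq_mul, Pi.smul_apply]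
      rw [Pi.single_apply, Function.update_apply, mul_ite, mul_one, mul_zero]
      rfl
    · rintro M N hM hN ⟨g, hg, h1⟩ ⟨k, hk, h2⟩
      exact ⟨g * k, Y.mul_mem hg hk, by rw [map_mul, ← h1, ← h2]; rfl⟩
  rw [eq_top_iff]
  intro A _
  obtain ⟨g, hg, h1⟩ := key A.1 (by rw [A.2]; exact one_ne_zero)
  exact ⟨g, hg, Subtype.ext h1⟩

variable {G : Type} [Group G]

/-- transvections on a singular subgroup -/
theorem exists_tv' {Γ : Geo G} (B : Γ.Basic)
    (hsep : ∀ z ∈ Γ.Pt, ∀ K : Subgroup G, K ≤ Γ.QQ z → z ∈ K → ∀ u ∈ Γ.QQ z, u ∉ K →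
      ∃ q ∈ Γ.QQ z, (∀ k ∈ K, q * k = k * q) ∧ q * u ≠ u * q)
    {F : Subgroup G} (hF : Γ.Sing F) {n : ℕ} {ι : V n → G} (c : Coord F n ι) {i j : Fin n} (hij : i ≠ j) :
    ∃ q : G, Tv ι i j q := by
  set z := ι (Pi.single i 1) with hz
  have hzF : z ∈ F := c.ι_mem _
  have hz1 : z ≠ 1 := by
    intro h
    rw [← c.zero] at h
    have h1 := congrFun (c.inj h) i
    rw [Pi.single_eq_same] at h1
    exact one_ne_zero h1
  have hzP := hF.1 z hzF hz1
  have hinv : ∀ x, (ι x)⁻¹ = ι x := fun x => inv_eq_of_mul_eq_one_left (by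
    rw [← c.add, ← c.zero]
    congr 1
    funext l
    exact CharTwo.add_self_eq_zero _)
  let K : Subgroup G :=
    { carrier := {g | ∃ x : V n, x j = 0 ∧ g = ι x}
      one_mem' := ⟨0, rfl, c.zero.symm⟩
      mul_mem' := by
        rintro _ _ ⟨x, hx, rfl⟩ ⟨y, hy, rfl⟩
        exact ⟨x + y, by rw [Pi.add_apply, hx, hy, add_zero], (c.add x y).symm⟩
      inv_mem' := by
        rintro _ ⟨x, hx, rfl⟩
        exact ⟨x, hx, hinv x⟩ }
  obtain ⟨q, hq, hqK, hqu⟩ := hsep z hzP K (by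
      rintro _ ⟨x, -, rfl⟩
      exact hF.2 z hzF hz1 _ (c.ι_mem x))
    ⟨Pi.single i 1, Pi.single_eq_of_ne hij.symm _, rfl⟩ (ι (Pi.single j 1))
    (hF.2 z hzF hz1 _ (c.ι_mem _)) (by
      rintro ⟨x, hx, h1⟩
      rw [← c.inj h1, Pi.single_eq_same] at hx
      exact one_ne_zero hx)
  refine ⟨q, fun x => ?_⟩
  have h0 : ∀ y : V n, y j = 0 → q * ι y * q⁻¹ = ι y := fun y hy => by
    rw [hqK _ ⟨y, hy, rfl⟩, mul_inv_cancel_right]
  have key : ∀ a : ZMod 2, a = 0 ∨ a = 1 := by decide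
  rcases key (x j) with h1 | h1
  · rw [h0 x h1, h1, zero_smul, add_zero]
  · have h2 : q * ι (Pi.single j 1) * q⁻¹ = z * ι (Pi.single j 1) := by
      rcases B.QQ_der z hzP q hq _ (hF.2 z hzF hz1 _ (c.ι_mem (Pi.single j 1))) with h3 | h3
      · exact absurd (mul_inv_eq_iff_eq_mul.1 (mul_inv_eq_one.1 h3)) hqu
      · exact mul_inv_eq_iff_eq_mul.1 h3
    have h3 : x = (x + Pi.single j 1) + Pi.single j 1 := by
      funext l
      rw [Pi.add_apply, Pi.add_apply, add_assoc, CharTwo.add_self_eq_zero, add_zero]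
    have h4 := h0 (x + Pi.single j 1) (by rw [Pi.add_apply, h1, Pi.single_eq_same]; rfl)
    rw [h1, one_smul]
    calc q * ι x * q⁻¹ = q * ι (x + Pi.single j 1) * q⁻¹ * (q * ι (Pi.single j 1) * q⁻¹) := by
          conv_lhs => rw [h3, c.add]
          group
      _ = ι (x + Pi.single j 1 + (Pi.single i 1 + Pi.single j 1)) := by
          rw [h4, h2, c.add _ (_ + _), c.add (Pi.single i 1)]
      _ = _ := by
          congr 1
          rw [add_comm (Pi.single i 1), ← add_assoc, ← h3]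

variable [Finite G] {Q : Subgroup G} {z : G} {eta : G → L2}
  {pi : Subgroup.centralizer ({z} : Set G) →* Co1} {y τ : G}

/-- **The normalizer of a singular subgroup of order at least four.** -/
theorem ps_sing8 (F : Fr Q z eta pi y τ) (o : golayCode) (S : Subgroup G) (hS : (geo F.ch o).Sing S)
    (h : ∃ u ∈ S, ∃ v ∈ S, u ≠ 1 ∧ v ≠ 1 ∧ u ≠ v) : PS 8 (normalizer (S : Set G)) := by
  have B := basic F o
  obtain ⟨u, hu, v, hv, hu1, hv1, huv⟩ := h
  obtain ⟨eta', pi', τ', F'⟩ := F.at_pair (hS.1 u hu hu1) (hS.1 v hv hv1) (hS.2 u hu hu1 v hv) huv.symm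
  have h4 : four u v ≤ S := (closure_le _).2 (by
    rintro _ (rfl | rfl)
    · exact hu
    · exact hv)
  have hc4 : Nat.card (four u v) = 4 := (H848.NormFour.klein F'.ch F'.hyQ F'.hy).card_four
  have hsq : ∀ a ∈ S, a * a = 1 := by
    intro a ha
    by_cases h : a = 1
    · rw [h, mul_one]
    · exact B.pt_sq a (hS.1 a ha h)
  have hab : ∀ a ∈ S, ∀ b ∈ S, a * b = b * a := by
    intro a ha b hb
    by_cases h : b = 1
    · rw [h, mul_one, one_mul]
    · exact B.QQ_comm b (hS.1 b hb h) a (hS.2 b hb h a ha)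
  have hS2 : IsPGroup 2 S := fun x => ⟨1, Subtype.ext (by
    rw [pow_one, pow_two]
    exact hsq x x.2)⟩
  obtain ⟨n, hn⟩ := IsPGroup.iff_card.1 hS2
  by_cases hn2 : n ≤ 2
  · have h1 : four u v = S := by
      refine eq_of_le_of_card_ge h4 ?_
      rw [hn, hc4]
      exact (Nat.pow_le_pow_right two_pos hn2).trans (by norm_num)
    rw [← h1]
    exact Gen.ps_of_sd (sd_four F')
  obtain ⟨ι, c⟩ := exists_iota S hab hsq hn
  obtain ⟨β, hβ⟩ := c.exists_beta
  have h1 : ∀ i j, i ≠ j → ∃ g ∈ normalizer (S : Set G), Tv ι i j g := by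
    intro i j hij
    obtain ⟨q, hq⟩ := exists_tv' B (by
      intro c hc K hK hcK u hu huK
      obtain ⟨x, h1, h2, h3⟩ := Fr.point F hc
      obtain ⟨eta', pi', τ', F'⟩ := F.at_pair hc h1 h2 h3
      exact sep F'.ch hK hcK hu huK) hS c hij
    refine ⟨q, mem_normalizer_fintype fun f hf => ?_, hq⟩
    obtain ⟨x, rfl⟩ := (c.mem f).1 hf
    rw [hq x]
    exact c.ι_mem _
  have h2 : (derivedSeries (normalizer (S : Set G)) 1).map β = ⊤ := by
    refine map_eq_top_of_tv c β hβ fun i j hij => ?_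
    obtain ⟨g, hg, h3⟩ := tv_dser (by omega) h1 1 i j hij
    rw [dser_eq_map] at hg
    obtain ⟨k, hk, rfl⟩ := hg
    exact ⟨k, hk, h3⟩
  have h3 : Function.Surjective β := fun A => by
    obtain ⟨g, -, hg⟩ : A ∈ (derivedSeries (normalizer (S : Set G)) 1).map β := by rw [h2]; trivial
    exact ⟨g, hg⟩
  refine PS.of_ker (a := 8) (b := 0) h3 ?_ ?_
  · have h5 : ∀ x : β.ker, ((x : normalizer (S : Set G)) : G) ∈ normalizer (four u v : Set G) := by
      intro x
      have h6 := x.2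
      simp only [c.ker_beta β hβ] at h6
      refine mem_normalizer_fintype fun f hf => ?_
      rw [← mem_centralizer_iff.1 (mem_subgroupOf.1 h6) f (h4 hf), mul_inv_cancel_right]
      exact hf
    let f : β.ker →* normalizer (four u v : Set G) :=
      ((normalizer (S : Set G)).subtype.comp β.ker.subtype).codRestrict _ h5
    refine Gen.ps_of_sd (Gen.SD.of_inj f (fun a b hab => ?_) (sd_four F'))
    have h6 : ((f a : normalizer (four u v : Set G)) : G) = f b := congrArg Subtype.val hab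
    exact Subtype.ext (Subtype.ext h6)
  · unfold PS
    rw [derivedSeries_zero, eq_top_iff, ← h2]
    exact map_derivedSeries_le_derivedSeries β 1

/-- the form used in `DS.M.Two.ps_of_sing` -/
theorem ps_sing (F : Fr Q z eta pi y τ) (o : golayCode) (S : Subgroup G) (hS : (geo F.ch o).Sing S)
    (h : ∃ u ∈ S, ∃ v ∈ S, u ≠ 1 ∧ v ≠ 1 ∧ u ≠ v) : PS 9 (normalizer (S : Set G)) :=
  (ps_sing8 F o S hS h).mono (by norm_num)

end Cfsg.Agent.DS.B
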