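import Cfsg.Agent.DS.Sp.Tools
import Cfsg.Agent.DS.Gen.Split
import Cfsg.Agent.LThreeFi24.Comp

/-!
# S5881, S5882, the box `BoxB`: tools (helper22)

* `exists_orbit` : a short orbit of a `p`-group on an invariant set;
* `card_quot_dvd` : the Frattini argument;
* `OddF G` : the facts on the odd local subgroups; `OddF.ps_of_not_solvable`, `OddF.ps_or_char_two`.
-/

set_option autoImplicit false
set_option linter.style.haveILetI false

namespace Cfsg.Agent.DS.B

open Subgroup Cfsg Cfsg.Agent.H936 Cfsg.Agent.DS.Ord Cfsg.Agent.DS.Sp Cfsg.Agent.H511.Wt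
open scoped commutatorElement

/-- a `p`-group acting on a set whose size is not divisible by `p ^ (j + 1)` -/
theorem exists_index {P : Type*} [Group P] [Finite P] {p j : ℕ} [hp : Fact p.Prime] (hP : IsPGroup p P)
    (X : Type*) [Finite X] [MulAction P X] (h : ¬ p ^ (j + 1) ∣ Nat.card X) :
    ∃ a : X, (MulAction.stabilizer P a).index ∣ p ^ j := by
  classical
  by_contra hne
  push Not at hne
  apply h
  letI : Fintype (MulAction.orbitRel.Quotient P X) := Fintype.ofFinite _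
  rw [Nat.card_congr (MulAction.selfEquivSigmaOrbits P X), Nat.card_sigma]
  refine Finset.dvd_sum fun ω _ => ?_
  obtain ⟨k, hk⟩ := hP.index (MulAction.stabilizer P ω.out)
  have h1 := hne ω.out
  rw [hk, Nat.pow_dvd_pow_iff_le_right hp.out.one_lt] at h1
  rw [MulAction.index_stabilizer, ← Nat.card_coe_set_eq] at hk
  rw [hk]
  exact pow_dvd_pow p (by omega)

/-- a short orbit under conjugation -/
theorem exists_orbit {G : Type*} [Group G] [Finite G] {p j : ℕ} [Fact p.Prime] {S : Subgroup G} (hS : IsPGroup p S)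
    {X : Set G} (hX : ∀ g ∈ S, ∀ x ∈ X, g * x * g⁻¹ ∈ X) (h : ¬ p ^ (j + 1) ∣ X.ncard) :
    ∃ x ∈ X, Nat.card S ∣ p ^ j * Nat.card (S ⊓ centralizer ({x} : Set G) : Subgroup G) := by
  letI : MulAction S X :=
    { smul := fun g t => ⟨g * t.1 * (g : G)⁻¹, hX g g.2 t.1 t.2⟩
      one_smul := fun t => by
        apply Subtype.ext
        change (1 : G) * t.1 * (1 : G)⁻¹ = t.1
        group
      mul_smul := fun g k t => by
        apply Subtype.ext
        change ((g : G) * k) * t.1 * ((g : G) * k)⁻¹ = g * (k * t.1 * (k : G)⁻¹) * (g : G)⁻¹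
        group }
  obtain ⟨a, ha⟩ := exists_index hS X (by rwa [Nat.card_coe_set_eq])
  refine ⟨a.1, a.2, ?_⟩
  rw [← (MulAction.stabilizer S a).index_mul_card]
  refine Nat.mul_dvd_mul ha ?_
  rw [← card_map_of_injective S.subtype_injective]
  refine card_dvd_of_le ?_
  rintro _ ⟨g, hg, rfl⟩
  refine ⟨g.2, mem_centralizer_singleton_iff.2 ?_⟩
  have h1 : (g : G) * a.1 * (g : G)⁻¹ = a.1 := congrArg Subtype.val (MulAction.mem_stabilizer_iff.1 hg)
  exact mul_inv_eq_iff_eq_mul.1 h1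

theorem ncard_diff {G : Type*} [Group G] [Finite G] {A B : Subgroup G} (h : A ≤ B) :
    ((B : Set G) \ A).ncard = Nat.card B - Nat.card A := by
  rw [Set.ncard_sdiff h, ← Nat.card_coe_set_eq, ← Nat.card_coe_set_eq]
  rfl

/-- an element of prime order with a large centralizer in the normalizer of a `q`-group -/
theorem exists_prime_cent {G : Type*} [Group G] [Finite G] {p q j m : ℕ} [Fact p.Prime] (hq : q.Prime)
    {P : Subgroup G} (hP : IsPGroup q P) (h : ¬ p ^ (j + 1) ∣ Nat.card P - 1)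
    (hN : p ^ (j + m) ∣ Nat.card (normalizer (P : Set G))) :
    ∃ x ∈ P, orderOf x = q ∧ p ^ m ∣ Nat.card (centralizer ({x} : Set G)) := by
  obtain ⟨K, hK⟩ := Sylow.exists_subgroup_card_pow_prime p hN
  have hK' : Nat.card (K.map (normalizer (P : Set G)).subtype) = p ^ (j + m) := by
    rw [card_map_of_injective (subtype_injective _), hK]
  obtain ⟨t, ⟨ht, ht1⟩, htc⟩ := exists_orbit (j := j) (IsPGroup.of_card hK') (X := (P : Set G) \ (⊥ : Subgroup G)) (by
    rintro _ ⟨g, -, rfl⟩ x ⟨hx, hx1⟩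
    refine ⟨(mem_normalizer_iff.1 g.2 x).1 hx, fun h1 => hx1 ?_⟩
    rw [SetLike.mem_coe, mem_bot] at h1 ⊢
    exact conj_eq_one_iff.1 h1) (by rwa [ncard_diff bot_le, card_bot])
  rw [hK', pow_add] at htc
  have h1 := Nat.dvd_of_mul_dvd_mul_left (pow_pos (Fact.out : p.Prime).pos j) htc
  obtain ⟨i, hi⟩ := hP ⟨t, ht⟩
  have hi' : t ^ q ^ i = 1 := congrArg Subtype.val hi
  have h2 : q ∣ orderOf t := by
    obtain ⟨l, _, hl⟩ := (Nat.dvd_prime_pow hq).1 (orderOf_dvd_of_pow_eq_one hi')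
    rw [hl]
    refine dvd_pow_self q ?_
    rintro rfl
    rw [pow_zero, orderOf_eq_one_iff] at hl
    exact ht1 (by rw [hl]; exact one_mem _)
  refine ⟨t ^ (orderOf t / q), P.pow_mem ht _, orderOf_pow_orderOf_div (orderOf_pos t).ne' h2,
    h1.trans (card_dvd_of_le ?_)⟩
  intro g hg
  exact mem_centralizer_singleton_iff.2 (Commute.pow_right (mem_centralizer_singleton_iff.1 hg.2) _).eq

/-- the Frattini argument -/
theorem card_quot_dvd {G : Type*} [Group G] [Finite G] {H : Subgroup G} (R : Subgroup H) [R.Normal] {s : ℕ}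
    (hs : s.Prime) (hd : s ∣ Nat.card R) :
    ∃ P : Subgroup G, IsPGroup s P ∧ P ≠ ⊥ ∧ Nat.card (H ⧸ R) ∣ Nat.card (normalizer (P : Set G)) := by
  haveI : Fact s.Prime := ⟨hs⟩
  obtain ⟨P⟩ : Nonempty (Sylow s R) := inferInstance
  have h1 := P.normalizer_sup_eq_top
  set P' : Subgroup H := (P : Subgroup R).map R.subtype with hP'
  refine ⟨P'.map H.subtype, (P.isPGroup'.map _).map _, ?_, ?_⟩
  · intro h0
    have h2 := P.dvd_card_of_dvd_card hd
    rw [← card_map_of_injective R.subtype_injective, ← hP', ← card_map_of_injective H.subtype_injective, h0, card_bot,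
      Nat.dvd_one] at h2
    exact hs.one_lt.ne' h2
  · have h2 : (normalizer (P' : Set H)).map (QuotientGroup.mk' R) = ⊤ := by
      have h3 := congrArg (Subgroup.map (QuotientGroup.mk' R)) h1
      rwa [Subgroup.map_sup, (Subgroup.map_eq_bot_iff R).2 (QuotientGroup.ker_mk' R).ge, sup_bot_eq,
        map_top_of_surjective _ (QuotientGroup.mk'_surjective R)] at h3
    rw [← card_top, ← h2]
    refine (card_map_dvd _ _).trans ?_
    rw [← card_map_of_injective H.subtype_injective]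
    refine card_dvd_of_le ?_
    rintro _ ⟨g, hg, rfl⟩
    refine mem_normalizer_fintype ?_
    rintro _ ⟨x, hx, rfl⟩
    exact ⟨g * x * g⁻¹, (mem_normalizer_iff.1 hg x).1 hx, rfl⟩

/-- the order bound -/
def NA : ℕ := 2 ^ 21 * 3 ^ 12 * 5 ^ 6 * 7 ^ 2 * 11 * 13 * 17 * 19 * 23 * 31 * 47

theorem sdOrd_NA : SDOrd NA 9 := sdOrd_of (by decide +kernel)

theorem dvd_NA {a : ℕ} (h : a ∣ 4154781481226426191177580544000000) (h2 : ¬ 2 ^ 22 ∣ a) :
    a ∣ 2 ^ 21 * 3 ^ 13 * 5 ^ 6 * 7 ^ 2 * 11 * 13 * 17 * 19 * 23 * 31 * 47 := by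
  have h1 : a ∣ 2 ^ 41 * (3 ^ 13 * 5 ^ 6 * 7 ^ 2 * 11 * 13 * 17 * 19 * 23 * 31 * 47) := h.trans (by decide +kernel)
  obtain ⟨a1, a2, h3, h4, rfl⟩ := exists_dvd_and_dvd_of_dvd_mul h1
  obtain ⟨i, _, rfl⟩ := (Nat.dvd_prime_pow Nat.prime_two).1 h3
  have h5 : i ≤ 21 := by
    by_contra hlt
    exact h2 ((pow_dvd_pow 2 (by omega)).trans (dvd_mul_right _ _))
  exact (Nat.mul_dvd_mul (pow_dvd_pow 2 h5) h4).trans (by decide +kernel)

theorem dvd_NA' {a : ℕ} (h : a ∣ 4154781481226426191177580544000000) (h2 : ¬ 2 ^ 22 ∣ a) (h3 : ¬ 3 ^ 13 ∣ a) :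
    a ∣ NA :=
  (dvd_of_not_pow_dvd Nat.prime_three (k := 12) (m := 2 ^ 21 * 5 ^ 6 * 7 ^ 2 * 11 * 13 * 17 * 19 * 23 * 31 * 47)
    ((dvd_NA h h2).trans (by decide +kernel)) h3).trans (by decide +kernel)

/-- the facts on the odd local subgroups -/
structure OddF (G : Type) [Group G] : Prop where
  card : Nat.card G = 4154781481226426191177580544000000
  two : ∀ s : ℕ, s.Prime → s ≠ 2 → ∀ P : Subgroup G, IsPGroup s P → P ≠ ⊥ →
    ¬ 2 ^ 22 ∣ Nat.card (normalizer (P : Set G))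
  three : ∀ s : ℕ, s.Prime → s ≠ 3 → ∀ P : Subgroup G, IsPGroup s P → P ≠ ⊥ →
    ¬ 3 ^ 13 ∣ Nat.card (normalizer (P : Set G))
  cent : ∀ x : G, orderOf x = 3 → ¬ Group.IsSolvable (centralizer ({x} : Set G))

variable {G : Type} [Group G] [Finite G]

/-- **Non-solvable subgroups.** -/
theorem OddF.ps_of_not_solvable (F : OddF G) {H : Subgroup G} (h : ¬ Group.IsSolvable H) : PS 9 H := by
  obtain ⟨n, hn⟩ := Ord.exists_ps H
  have h1 : ¬ Group.IsSolvable (derivedSeries H n) := by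
    intro h1
    haveI := quot_solvable H n
    exact h (Group.isSolvable_of_ker_le_range (derivedSeries H n).subtype (QuotientGroup.mk' (derivedSeries H n))
      (by rw [QuotientGroup.ker_mk', range_subtype]))
  obtain ⟨s, hs, hd, hs'⟩ : ∃ s : ℕ, s.Prime ∧ s ∣ Nat.card (derivedSeries H n) ∧ ¬ (s = 2 ∨ s = 3) := by
    by_contra hc
    push Not at hc
    exact h1 (LThreeFi24.Comp.solvable_of_primes hc)
  obtain ⟨P, hP, hP0, hPd⟩ := card_quot_dvd (derivedSeries H n) hs hd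
  refine ps_of_quot hn (sdOrd_NA _ (quot_solvable H n) (hPd.trans (dvd_NA' ?_ ?_ ?_)))
  · rw [← F.card]
    exact card_subgroup_dvd_card _
  · exact F.two s hs (fun h2 => hs' (Or.inl h2)) P hP hP0
  · exact F.three s hs (fun h2 => hs' (Or.inr h2)) P hP hP0

/-- the check for `q = 3` -/
def chk3 (N a k d : ℕ) : Bool :=
  Nat.blt a k || Nat.blt (a + 2) (2 ^ d + 2 * d) || Nat.blt (a + 2) (2 ^ d + d + k) ||
    (Nat.beq a 9 && Nat.beq k 8) || okT tabAL 3 k (N / 3 ^ a) (9 - (d + 1)) ||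
      (Nat.ble 2 d && okT tabAL 3 (min (a + 2 - (2 ^ d + 2 * d)) k) (N / 3 ^ a) (9 - (d + 1)) &&
        okT tabAL 3 (a + 5 - (k + 2 ^ d + d)) (N / 3 ^ a) (9 - (d + 1)))

theorem chk3_all : allLt (fun a => allLt (fun k => allLt (fun d =>
    chk3 (2 ^ 21 * 3 ^ 13 * 5 ^ 6 * 7 ^ 2 * 11 * 13 * 17 * 19 * 23 * 31 * 47) a k d) 4) 14) 14 = true := by
  decide +kernel

/-- the `3`-constrained case -/
theorem three_case {Y : Type} [Group Y] [Finite Y] [Group.IsSolvable Y] {P : Subgroup Y} [P.Normal] (hP : IsPGroup 3 P)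
    (hmax : ∀ L : Subgroup Y, L.Normal → IsPGroup 3 L → L ≤ P) (hcen : centralizer (P : Set Y) ≤ P)
    (hN : Nat.card Y ∣ 2 ^ 21 * 3 ^ 13 * 5 ^ 6 * 7 ^ 2 * 11 * 13 * 17 * 19 * 23 * 31 * 47)
    (h3 : ∀ L : Subgroup Y, L.Normal → Nat.card L ≠ 3) : derivedSeries Y 9 = ⊥ := by
  classical
  haveI : Fact (Nat.Prime 3) := ⟨Nat.prime_three⟩
  rw [← dser_top]
  by_cases hPb : P = ⊥
  · rw [eq_bot_iff]
    refine (dser_le _ 9).trans (le_trans ?_ (hcen.trans hPb.le))
    intro x _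
    rw [mem_centralizer_iff]
    intro y hy
    rw [hPb, SetLike.mem_coe, mem_bot] at hy
    rw [hy, one_mul, mul_one]
  obtain ⟨a, ha⟩ := IsPGroup.iff_card.1 hP
  obtain ⟨k, hk⟩ := relIndex_pow (C := phi P) hP
  have hex := exists_dser_eq_bot P
  obtain ⟨d, hd⟩ : ∃ d, Nat.find hex = d + 1 := by
    refine Nat.exists_eq_succ_of_ne_zero fun h0 => hPb ?_
    have := Nat.find_spec hex
    rwa [h0] at this
  have hd1 : dser P d ≠ ⊥ := Nat.find_min hex (by omega)
  have hd2 : dser P (d + 1) = ⊥ := hd ▸ Nat.find_spec hex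
  obtain ⟨f1, f2, f3⟩ := feas hP ha hk hd1 hd2
  have ha13 : a < 14 := by
    by_contra hlt
    have h1 : 3 ^ 14 ∣ 2 ^ 21 * 3 ^ 13 * 5 ^ 6 * 7 ^ 2 * 11 * 13 * 17 * 19 * 23 * 31 * 47 :=
      ((pow_dvd_pow 3 (by omega)).trans (ha ▸ card_subgroup_dvd_card P)).trans hN
    norm_num at h1
  have hd4 : d < 4 := by
    by_contra hlt
    have : 2 ^ 4 ≤ 2 ^ d := Nat.pow_le_pow_right (by norm_num) (by omega)
    omega
  have h1 := allLt_spec (allLt_spec (allLt_spec chk3_all ha13) (show k < 14 by omega)) hd4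
  simp only [chk3, Bool.or_eq_true, Bool.and_eq_true, Nat.blt_eq, Nat.beq_eq, Nat.ble_eq] at h1
  have h2 : ¬ (a = 9 ∧ k = 8) := by
    rintro ⟨rfl, rfl⟩
    have h4 := card_mul_relIndex (phi_le P)
    rw [hk, ha] at h4
    exact h3 (phi P) (phi_normal P) (by omega)
  have h4 := dser_le_of_constrained hP hmax hcen ha hk hd1 hd2 hN (e := 9 - (d + 1)) (by
    rcases h1 with ((((h1 | h1) | h1) | h1) | h1) | h1
    · omega
    · omega
    · omega
    · exact absurd h1 h2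
    · exact Or.inl (tabA_valid.chB Y Nat.prime_three h1)
    · exact Or.inr ⟨h1.1.1, tabA_valid.chB Y Nat.prime_three h1.1.2, tabA_valid.chB Y Nat.prime_three h1.2⟩)
  rw [eq_bot_iff, show 9 = 9 - (d + 1) + (d + 1) by omega]
  exact dser_add_le h4 hd2.le

/-- a solvable group with only one prime in the Fitting subgroup -/
theorem exists_core {Y : Type} [Group Y] [Finite Y] [Group.IsSolvable Y] {q : ℕ} (hq : q.Prime)
    (h : ∀ r : ℕ, r.Prime → r ≠ q → ∀ L : Subgroup Y, L.Normal → IsPGroup r L → L = ⊥) :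
    ∃ P : Subgroup Y, P.Normal ∧ IsPGroup q P ∧ (∀ L : Subgroup Y, L.Normal → IsPGroup q L → L ≤ P) ∧
      centralizer (P : Set Y) ≤ P := by
  haveI : Fact q.Prime := ⟨hq⟩
  obtain ⟨P, hP⟩ := (Set.toFinite {P : Subgroup Y | P.Normal ∧ IsPGroup q P}).exists_maximal
    ⟨⊥, inferInstance, IsPGroup.of_bot⟩
  obtain ⟨hPn, hPq⟩ := hP.prop
  have hmax : ∀ L : Subgroup Y, L.Normal → IsPGroup q L → L ≤ P := by
    intro L hL hLq
    exact le_sup_left.trans (hP.le_of_ge ⟨inferInstance, hLq.to_sup_of_normal_right hPq⟩ le_sup_right)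
  have hF : fittingSubgroup Y ≤ P := by
    rw [S0009.result]
    refine iSup_le fun r => sSup_le ?_
    rintro L ⟨hL, hLr⟩
    by_cases hr : (r : ℕ) = q
    · exact hmax L hL (hr ▸ hLr)
    · rw [h r r.2 hr L hL hLr]
      exact bot_le
  have hPF : P ≤ fittingSubgroup Y := le_sSup ⟨hPn, hPq.isNilpotent⟩
  refine ⟨P, hPn, hPq, hmax, ?_⟩
  rw [le_antisymm hPF hF]
  exact S0044.result

theorem le_normalizer_map {H : Subgroup G} (L : Subgroup H) [hL : L.Normal] :
    H ≤ normalizer ((L.map H.subtype : Subgroup G) : Set G) := by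
  intro g hg
  refine mem_normalizer_fintype ?_
  rintro _ ⟨x, hx, rfl⟩
  exact ⟨_, hL.conj_mem x hx ⟨g, hg⟩, rfl⟩

/-- **Solvable subgroups**: `PS 9` or characteristic two. -/
theorem OddF.ps_or_char_two (F : OddF G) {H : Subgroup G} [Group.IsSolvable H]
    (hH : ∀ x ∈ H, orderOf x = 3 → H ≤ normalizer ((zpowers x : Subgroup G) : Set G) →
      centralizer ({x} : Set G) ≤ H) :
    PS 9 H ∨ ∃ T : Subgroup H, T.Normal ∧ IsPGroup 2 T ∧ centralizer (T : Set H) ≤ T := by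
  have hHG : Nat.card H ∣ 4154781481226426191177580544000000 := F.card ▸ card_subgroup_dvd_card H
  have key : ∀ L : Subgroup H, L.Normal → L ≠ ⊥ → L.map H.subtype ≠ ⊥ ∧
      Nat.card H ∣ Nat.card (normalizer ((L.map H.subtype : Subgroup G) : Set G)) := fun L hL h0 =>
    ⟨by rwa [Ne, Subgroup.map_eq_bot_iff_of_injective _ H.subtype_injective], card_dvd_of_le (le_normalizer_map L)⟩
  by_cases h2 : ∀ r : ℕ, r.Prime → r ≠ 2 → ∀ L : Subgroup H, L.Normal → IsPGroup r L → L = ⊥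
  · obtain ⟨T, h1, h3, -, h4⟩ := exists_core Nat.prime_two h2
    exact Or.inr ⟨T, h1, h3, h4⟩
  left
  push Not at h2
  obtain ⟨r, hr, hr2, L, hL, hLr, hL0⟩ := h2
  have h3 : ¬ 2 ^ 22 ∣ Nat.card H := fun h3 =>
    F.two r hr hr2 _ (hLr.map _) (key L hL hL0).1 (h3.trans (key L hL hL0).2)
  by_cases h4 : 3 ^ 13 ∣ Nat.card H
  swap
  · exact ps_of_sdOrd sdOrd_NA H (dvd_NA' hHG h3 h4)
  obtain ⟨P, h5, h6, h7, h8⟩ := exists_core (Y := H) Nat.prime_three fun s hs hs3 K hK hKs => by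
    by_contra h0
    exact F.three s hs hs3 _ (hKs.map _) (key K hK h0).1 (h4.trans (key K hK h0).2)
  refine PS.of_bot (three_case h6 h7 h8 (dvd_NA hHG h3) fun K hK hc => ?_)
  haveI : Fact (Nat.Prime 3) := ⟨Nat.prime_three⟩
  obtain ⟨x, hx⟩ := exists_prime_orderOf_dvd_card' (G := K) 3 (by rw [hc])
  have h9 : orderOf ((x : H) : G) = 3 := by rw [Subgroup.orderOf_coe, Subgroup.orderOf_coe, hx]
  have h10 : zpowers ((x : H) : G) = K.map H.subtype := by
    refine eq_of_le_of_card_ge (zpowers_le.2 ⟨x, x.2, rfl⟩) ?_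
    rw [card_map_of_injective H.subtype_injective, hc, Nat.card_zpowers, h9]
  have h11 := hH _ (x : H).2 h9 (by rw [h10]; exact le_normalizer_map K)
  exact F.cent _ h9 (Group.isSolvable_of_isSolvable_injective (f := inclusion h11) (inclusion_injective h11))

end Cfsg.Agent.DS.B
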